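import Groth.Prelude.Def_BMCoh3
import Mathlib.AlgebraicGeometry.Properties
import Mathlib.AlgebraicGeometry.Morphisms.Immersion
import Mathlib.Topology.NoetherianSpace

/-!
# Dimensions, reduced closed subschemes and general position in a constructible class
-/

universe u

noncomputable section

open AlgebraicGeometry CategoryTheory TopologicalSpace Topology BMCoh

namespace BMLib

section Dim

lemma natDim_congr {S T : Type u} [TopologicalSpace S] [TopologicalSpace T] (e : S ≃ₜ T) :
    WeilCoh.natDim S = WeilCoh.natDim T := by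
  unfold WeilCoh.natDim
  rw [IsHomeomorph.topologicalKrullDim_eq e e.isHomeomorph]

lemma pdim_eq_of_embedding {A B : Scheme.{u}} {f : A → B} (hf : IsEmbedding f) {s : Set A}
    {b : B} (hs : f '' s = closure {b}) :
    WeilCoh.natDim ↥s = WeilCoh.pdim B b := by
  rw [WeilCoh.pdim, ← hs]
  exact natDim_congr (hf.homeomorphImage s)

lemma pdim_map {A B : Scheme.{u}} (f : A ⟶ B) [IsClosedImmersion f] (a : A) :
    WeilCoh.pdim B (f a) = WeilCoh.pdim A a := by
  refine (pdim_eq_of_embedding f.isClosedEmbedding.isEmbedding ?_).symm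
  rw [← f.isClosedEmbedding.closure_image_eq, Set.image_singleton]

variable {V : ObjectProperty Scheme.{u}} [IsConstructible V]

lemma exists_krullDim_eq (X : Obj V) [Nonempty ↥X.scheme] :
    ∃ n : ℕ, topologicalKrullDim ↥X.scheme = (n : WithBot ℕ∞) := by
  have h := IsConstructible.finiteDim X.mem
  haveI : Nonempty (IrreducibleCloseds ↥X.scheme) :=
    ⟨⟨closure {Classical.arbitrary ↥X.scheme}, isIrreducible_singleton.closure, isClosed_closure⟩⟩
  have hne : topologicalKrullDim ↥X.scheme ≠ ⊥ := Order.krullDim_ne_bot_iff.2 inferInstance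
  revert h hne
  generalize topologicalKrullDim ↥X.scheme = d
  intro h hne
  obtain ⟨e, rfl⟩ := WithBot.ne_bot_iff_exists.1 hne
  have : e ≠ ⊤ := fun he => by simp [he] at h
  obtain ⟨n, rfl⟩ := ENat.ne_top_iff_exists.1 this
  exact ⟨n, rfl⟩

lemma dim_eq_of_krullDim {X : Scheme.{u}} {n : ℕ}
    (h : topologicalKrullDim ↥X = (n : WithBot ℕ∞)) : WeilCoh.dim X = n := by
  simp [WeilCoh.dim, WeilCoh.natDim, h]

lemma dim_ptSub (X : Obj V) (x : X.scheme) :
    WeilCoh.dim (X.ptSub x).scheme = WeilCoh.pdim X.scheme x := by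
  have hr : Set.range (X.ptSubι x) = closure {x} := by
    rw [Scheme.IdealSheafData.range_subschemeι, Scheme.IdealSheafData.coe_support_vanishingIdeal]
    simp
  rw [WeilCoh.dim]
  have := pdim_eq_of_embedding (X.ptSubι x).isClosedEmbedding.isEmbedding
    (s := Set.univ) (b := x) (by rw [Set.image_univ, hr])
  rw [← this]
  exact (natDim_congr (Homeomorph.Set.univ _)).symm

lemma range_ptSubι (X : Obj V) (x : X.scheme) : Set.range (X.ptSubι x) = closure {x} := by
  rw [Scheme.IdealSheafData.range_subschemeι, Scheme.IdealSheafData.coe_support_vanishingIdeal]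
  simp

lemma mem_range_ptSubι (X : Obj V) (x : X.scheme) : x ∈ Set.range (X.ptSubι x) := by
  rw [range_ptSubι]; exact subset_closure rfl

/-- The point of the reduced closure over `x`. -/
def ptGen (X : Obj V) (x : X.scheme) : (X.ptSub x).scheme := (mem_range_ptSubι X x).choose

lemma ptSubι_ptGen (X : Obj V) (x : X.scheme) : X.ptSubι x (ptGen X x) = x :=
  (mem_range_ptSubι X x).choose_spec

lemma ptGen_specializes (X : Obj V) (x : X.scheme) (w : (X.ptSub x).scheme) :
    ptGen X x ⤳ w := by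
  rw [← (X.ptSubι x).isClosedEmbedding.isInducing.specializes_iff, ptSubι_ptGen,
    specializes_iff_mem_closure, ← range_ptSubι]
  exact ⟨w, rfl⟩

instance irreducibleSpace_ptSub (X : Obj V) (x : X.scheme) :
    IrreducibleSpace ↥(X.ptSub x).scheme := by
  rw [irreducibleSpace_def]
  have : (Set.univ : Set (X.ptSub x).scheme) = closure {ptGen X x} :=
    (Set.eq_univ_of_forall fun w => specializes_iff_mem_closure.1 (ptGen_specializes X x w)).symm
  change IsIrreducible (Set.univ : Set (X.ptSub x).scheme)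
  rw [this]
  exact isIrreducible_singleton.closure

lemma ptGen_mem {X : Obj V} {x : X.scheme} {W : (X.ptSub x).scheme.Opens}
    (hW : (W : Set (X.ptSub x).scheme).Nonempty) : ptGen X x ∈ W :=
  (ptGen_specializes X x hW.some).mem_open W.isOpen hW.some_mem

lemma dim_open_ptSub {X : Obj V} {x : X.scheme} {W : (X.ptSub x).scheme.Opens}
    (hW : (W : Set (X.ptSub x).scheme).Nonempty) :
    WeilCoh.dim (W : Scheme.{u}) = WeilCoh.dim (X.ptSub x).scheme :=
  IsConstructible.dim_open (X.ptSub x).mem inferInstance W hW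

lemma pdim_le_dim (X : Obj V) (x : X.scheme) : WeilCoh.pdim X.scheme x ≤ WeilCoh.dim X.scheme := by
  haveI : Nonempty ↥X.scheme := ⟨x⟩
  haveI : Nonempty ↥(X.ptSub x).scheme := ⟨ptGen X x⟩
  obtain ⟨n, hn⟩ := exists_krullDim_eq X
  obtain ⟨m, hm⟩ := exists_krullDim_eq (X.ptSub x)
  rw [← dim_ptSub, dim_eq_of_krullDim hn, dim_eq_of_krullDim hm]
  have := IsInducing.topologicalKrullDim_le (X.ptSubι x).isClosedEmbedding.isInducing
  rw [hn, hm] at this
  exact_mod_cast this

lemma codim_add_pdim (X : Obj V) (x : X.scheme) :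
    (WeilCoh.codim X.scheme x : ℤ) + WeilCoh.pdim X.scheme x = WeilCoh.dim X.scheme := by
  have := pdim_le_dim X x
  simp only [WeilCoh.codim]
  omega

lemma exists_pdim_eq_dim (X : Obj V) [Nonempty ↥X.scheme] :
    ∃ x : X.scheme, WeilCoh.pdim X.scheme x = WeilCoh.dim X.scheme := by
  obtain ⟨n, hn⟩ := exists_krullDim_eq X
  obtain ⟨l, hl⟩ := Order.le_krullDim_iff.1 (le_of_eq hn.symm)
  obtain ⟨x, hx⟩ := QuasiSober.sober l.last.2 l.last.3
  refine ⟨x, le_antisymm (pdim_le_dim X x) ?_⟩
  haveI : Nonempty ↥(X.ptSub x).scheme := ⟨ptGen X x⟩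
  obtain ⟨m, hm⟩ := exists_krullDim_eq (X.ptSub x)
  rw [← dim_ptSub, dim_eq_of_krullDim hn, dim_eq_of_krullDim hm]
  -- pull the series back to the closure of `x`
  have hsub : ∀ i, (l i : Set X.scheme) ⊆ Set.range (X.ptSubι x) := fun i => by
    rw [range_ptSubι, show closure ({x} : Set X.scheme) = l.last from hx]
    exact l.monotone (Fin.le_last i)
  have hex : ∀ i, ∃ w, X.ptSubι x '' closure {w} = (l i : Set X.scheme) := fun i => by
    obtain ⟨y, hy⟩ := QuasiSober.sober (l i).2 (l i).3
    have hy' : y ∈ (l i : Set X.scheme) := (show closure {y} = (l i : Set X.scheme) from hy) ▸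
      subset_closure rfl
    obtain ⟨w, rfl⟩ := hsub i hy'
    refine ⟨w, ?_⟩
    rw [← (X.ptSubι x).isClosedEmbedding.closure_image_eq, Set.image_singleton]
    exact hy
  choose w hw using hex
  let pre : Fin (l.length + 1) → IrreducibleCloseds ↥(X.ptSub x).scheme := fun i =>
    ⟨closure {w i}, isIrreducible_singleton.closure, isClosed_closure⟩
  have hmono : StrictMono pre := fun i j hij => by
    have h := l.strictMono hij
    have hle : closure {w i} ⊆ closure {w j} := by
      rw [← Set.image_subset_image_iff (X.ptSubι x).isClosedEmbedding.injective, hw, hw]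
      exact h.le
    refine lt_of_le_of_ne hle fun he => h.ne (SetLike.coe_injective ?_)
    rw [← hw, ← hw]
    exact congrArg (fun t : IrreducibleCloseds ↥(X.ptSub x).scheme =>
      X.ptSubι x '' (t : Set (X.ptSub x).scheme)) he
  have := Order.LTSeries.length_le_krullDim (LTSeries.mk l.length pre hmono)
  rw [show Order.krullDim _ = (m : WithBot ℕ∞) from hm] at this
  have : l.length ≤ m := by exact_mod_cast this
  omega

lemma exists_codim_zero (X : Obj V) [Nonempty ↥X.scheme] :
    ∃ x : X.scheme, WeilCoh.codim X.scheme x = 0 := by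
  obtain ⟨x, hx⟩ := exists_pdim_eq_dim X
  exact ⟨x, by simp [WeilCoh.codim, hx]⟩

/-- An open keeps the dimension of the closures of its points. -/
lemma pdim_opens (X : Obj V) (U : X.scheme.Opens) (y : (U : Scheme.{u})) :
    WeilCoh.pdim (U : Scheme.{u}) y = WeilCoh.pdim X.scheme (U.ι y) := by
  set x := U.ι y
  let W := X.ptSubι x ⁻¹ᵁ U
  have hne : (W : Set (X.ptSub x).scheme).Nonempty :=
    ⟨ptGen X x, by change X.ptSubι x _ ∈ U; rw [ptSubι_ptGen]; exact y.2⟩
  rw [← dim_ptSub, ← dim_open_ptSub hne, WeilCoh.dim]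
  have e1 : U.ι '' closure ({y} : Set (U : Scheme.{u})) = closure {x} ∩ (U : Set X.scheme) := by
    have h := U.ι.isOpenEmbedding.isOpenMap.preimage_closure_eq_closure_preimage U.ι.continuous {x}
    have hy : U.ι ⁻¹' {x} = {y} := by
      ext z; exact ⟨fun hz => U.ι.isOpenEmbedding.injective hz, fun hz => by rw [hz]; rfl⟩
    rw [hy] at h
    rw [← h, Set.image_preimage_eq_inter_range, Scheme.Opens.range_ι]
  have e2 : (W.ι ≫ X.ptSubι x) '' Set.univ = closure {x} ∩ (U : Set X.scheme) := by
    rw [Set.image_univ, Scheme.Hom.comp_base, TopCat.coe_comp, Set.range_comp, Scheme.Opens.range_ι]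
    change X.ptSubι x '' (X.ptSubι x ⁻¹' (U : Set X.scheme)) = _
    rw [Set.image_preimage_eq_inter_range, range_ptSubι, Set.inter_comm]
  have h1 := natDim_congr (U.ι.isOpenEmbedding.isEmbedding.homeomorphImage
    (closure ({y} : Set (U : Scheme.{u}))))
  have h2 := natDim_congr ((Homeomorph.Set.univ _).symm.trans
    ((((X.ptSubι x).isClosedEmbedding.isEmbedding.comp W.ι.isOpenEmbedding.isEmbedding).homeomorphImage
      Set.univ)))
  refine h1.trans (Eq.trans ?_ h2.symm)
  exact natDim_congr (Homeomorph.setCongr (e1.trans e2.symm))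

/-- An open containing a point of codimension zero has the dimension of the whole. -/
lemma dim_opens_of_mem (X : Obj V) (U : X.scheme.Opens)
    (h : ∀ y : X.scheme, WeilCoh.codim X.scheme y = 0 → y ∈ U) :
    WeilCoh.dim (U : Scheme.{u}) = WeilCoh.dim X.scheme := by
  cases isEmpty_or_nonempty ↥X.scheme with
  | inl he =>
    have hU : IsEmpty ↥(U : Scheme.{u}) := Function.isEmpty U.ι
    have h0 : ∀ (Y : Scheme.{u}) [IsEmpty ↥Y], WeilCoh.dim Y = 0 := fun Y _ => by
      haveI : IsEmpty (IrreducibleCloseds ↥Y) := ⟨fun Z => isEmptyElim Z.2.nonempty.some⟩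
      have : topologicalKrullDim ↥Y = ⊥ := Order.krullDim_eq_bot_iff.2 inferInstance
      simp [WeilCoh.dim, WeilCoh.natDim, this]
    rw [h0, h0]
  | inr hne =>
    obtain ⟨x, hx⟩ := exists_pdim_eq_dim X
    have hxU : x ∈ U := h x (by simp [WeilCoh.codim, hx])
    haveI : Nonempty ↥(X.res U).scheme := ⟨⟨x, hxU⟩⟩
    refine le_antisymm ?_ ?_
    · obtain ⟨y, hy⟩ := exists_pdim_eq_dim (X.res U)
      rw [← hy, pdim_opens]
      exact pdim_le_dim _ _
    · rw [← hx]
      have := pdim_le_dim (X.res U) ⟨x, hxU⟩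
      rw [show WeilCoh.pdim (X.res U).scheme ⟨x, hxU⟩ = WeilCoh.pdim X.scheme x from
        pdim_opens X U ⟨x, hxU⟩] at this
      exact this

lemma dim_opens_of_containsFj {X : Obj V} {j : ℕ} {U : X.scheme.Opens} (h : ContainsFj X j U) :
    WeilCoh.dim (U : Scheme.{u}) = WeilCoh.dim X.scheme :=
  dim_opens_of_mem X U fun y hy => h y (by omega)

lemma codim_le_of_specializes (X : Obj V) {x y : X.scheme} (h : x ⤳ y) :
    WeilCoh.codim X.scheme x ≤ WeilCoh.codim X.scheme y := by
  obtain ⟨w, hw⟩ : y ∈ Set.range (X.ptSubι x) := by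
    rw [range_ptSubι]; exact specializes_iff_mem_closure.1 h
  have h1 := pdim_le_dim (X.ptSub x) w
  rw [dim_ptSub, ← pdim_map (X.ptSubι x), hw] at h1
  simp only [WeilCoh.codim]
  omega

lemma codim_lt_of_specializes (X : Obj V) {x y : X.scheme} (h : x ⤳ y) (hne : x ≠ y) :
    WeilCoh.codim X.scheme x < WeilCoh.codim X.scheme y := by
  obtain ⟨w, hw⟩ : y ∈ Set.range (X.ptSubι x) := by
    rw [range_ptSubι]; exact specializes_iff_mem_closure.1 h
  let S := X.ptSub x
  haveI : Nonempty ↥S.scheme := ⟨w⟩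
  haveI : Nonempty ↥(S.ptSub w).scheme := ⟨ptGen S w⟩
  obtain ⟨n, hn⟩ := exists_krullDim_eq S
  obtain ⟨m, hm⟩ := exists_krullDim_eq (S.ptSub w)
  obtain ⟨l, hl⟩ := Order.le_krullDim_iff.1 (le_of_eq hm.symm)
  let L := l.map (IrreducibleCloseds.map (S.ptSubι w) (S.ptSubι w).continuous)
    (IrreducibleCloseds.map_strictMono_of_isInducing (S.ptSubι w).isClosedEmbedding.isInducing)
  let top : IrreducibleCloseds ↥S.scheme :=
    ⟨Set.univ, IrreducibleSpace.isIrreducible_univ _, isClosed_univ⟩
  have hlast : L.last < top := by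
    refine lt_of_le_of_ne (fun _ _ => trivial) fun he => ?_
    have hsub : (L.last : Set S.scheme) ⊆ closure {w} := by
      change closure (S.ptSubι w '' _) ⊆ _
      refine closure_minimal ?_ isClosed_closure
      rw [← range_ptSubι]
      exact Set.image_subset_range _ _
    have hg : w ⤳ ptGen X x := specializes_iff_mem_closure.2
      (hsub ((congrArg SetLike.coe he).ge trivial))
    have hxy := hg.map (X.ptSubι x).continuous
    rw [hw, ptSubι_ptGen] at hxy
    exact hne (h.antisymm hxy).eq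
  have hlen := Order.LTSeries.length_le_krullDim (L.snoc top hlast)
  rw [show Order.krullDim _ = (n : WithBot ℕ∞) from hn] at hlen
  have hlen' : m + 1 ≤ n := by
    have : ((L.snoc top hlast).length : WithBot ℕ∞) = ((m + 1 : ℕ) : WithBot ℕ∞) := by simp [L, hl]
    rw [this] at hlen
    exact_mod_cast hlen
  have h1 : WeilCoh.pdim X.scheme y = m := by
    rw [← hw, pdim_map, ← dim_ptSub, dim_eq_of_krullDim hm]
  have h2 : WeilCoh.pdim X.scheme x = n := by rw [← dim_ptSub, dim_eq_of_krullDim hn]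
  have := pdim_le_dim X x
  simp only [WeilCoh.codim]
  omega

/-- The dimension of a reduced closed subscheme, from its generic points. -/
lemma dim_eq_of_forall_pdim_le (Z : Obj V) {d : ℕ} (hle : ∀ z, WeilCoh.pdim Z.scheme z ≤ d)
    {z₀ : Z.scheme} (h₀ : WeilCoh.pdim Z.scheme z₀ = d) : WeilCoh.dim Z.scheme = d := by
  haveI : Nonempty ↥Z.scheme := ⟨z₀⟩
  obtain ⟨z, hz⟩ := exists_pdim_eq_dim Z
  exact le_antisymm (hz ▸ hle z) (h₀ ▸ pdim_le_dim Z z₀)

end Dim

section Reduced

variable {X : Scheme.{u}}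

lemma isReduced_vanishingIdeal (S : Closeds X) :
    IsReduced (Scheme.IdealSheafData.vanishingIdeal S).subscheme := by
  haveI : ∀ i, IsReduced ((Scheme.IdealSheafData.vanishingIdeal S).subschemeCover.openCover.X i) :=
    fun (U : X.affineOpens) => by
    change IsReduced (Spec (CommRingCat.of
      (Γ(X, U) ⧸ (Scheme.IdealSheafData.vanishingIdeal S).ideal U)))
    haveI : _root_.IsReduced (Γ(X, U) ⧸ (Scheme.IdealSheafData.vanishingIdeal S).ideal U) :=
      (Ideal.isRadical_iff_quotient_reduced _).1 (by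
        rw [Scheme.IdealSheafData.vanishingIdeal_ideal]
        exact PrimeSpectrum.isRadical_vanishingIdeal _)
    infer_instance
  exact IsReduced.of_openCover (𝒰 := (Scheme.IdealSheafData.vanishingIdeal S).subschemeCover.openCover)

/-- A morphism from a reduced scheme into a closed set factors through the reduced subscheme. -/
lemma vanishingIdeal_le_ker {W : Scheme.{u}} (f : W ⟶ X) [IsReduced W] (S : Closeds X)
    (h : Set.range f ⊆ S) : Scheme.IdealSheafData.vanishingIdeal S ≤ f.ker := by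
  refine Scheme.IdealSheafData.le_ofIdeals_iff.2 fun U s hs => ?_
  rw [Scheme.IdealSheafData.vanishingIdeal_ideal, PrimeSpectrum.mem_vanishingIdeal] at hs
  rw [RingHom.mem_ker]
  refine eq_zero_of_basicOpen_eq_bot _ (eq_bot_iff.2 fun w hw => ?_)
  exfalso
  rw [← Scheme.preimage_basicOpen] at hw
  have hwU : f w ∈ U.1 := X.basicOpen_le s hw
  let p := U.2.primeIdealOf ⟨f w, hwU⟩
  have hp : U.2.fromSpec p = f w := U.2.fromSpec_primeIdealOf ⟨f w, hwU⟩
  have hsp := hs p (by change U.2.fromSpec p ∈ (S : Set X); rw [hp]; exact h ⟨w, rfl⟩)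
  have : p ∈ U.2.fromSpec ⁻¹ᵁ X.basicOpen s := by
    change U.2.fromSpec p ∈ X.basicOpen s
    rw [hp]; exact hw
  rw [U.2.fromSpec_preimage_basicOpen] at this
  exact this hsp

end Reduced

section Position

variable {V : ObjectProperty Scheme.{u}} [IsConstructible V]

omit [IsConstructible V] in
lemma mem_finsetSup {T : Type*} [TopologicalSpace T] {ι : Type*} (t : Finset ι) (f : ι → Closeds T)
    (y : T) : y ∈ t.sup f ↔ ∃ i ∈ t, y ∈ f i := by
  classical
  induction t using Finset.induction with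
  | empty =>
    simp only [Finset.sup_empty, Finset.notMem_empty, false_and, exists_false, iff_false]
    exact Set.notMem_empty y
  | insert i t hi ih =>
    rw [Finset.sup_insert, Finset.exists_mem_insert, ← ih]
    exact Set.mem_union y _ _

/-- In general position: the closures of the points of `s` are disjoint inside `Y`. -/
def Good (X : Obj V) {j : ℕ} (s : Finset (X.cdPt (j + 1))) (Y : X.scheme.Opens) : Prop :=
  ∀ x ∈ s, ∀ y ∈ s, x ≠ y → closure ({x.1} : Set X.scheme) ∩ closure {y.1} ∩ (Y : Set X.scheme) = ∅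

lemma Good.mono {X : Obj V} {j : ℕ} {s : Finset (X.cdPt (j + 1))} {Y Y' : X.scheme.Opens}
    (h : Good X s Y) (hle : Y' ≤ Y) : Good X s Y' := fun x hx y hy hne =>
  Set.subset_empty_iff.1 ((Set.inter_subset_inter_right _ hle).trans (h x hx y hy hne).le)

lemma containsFj_inter {X : Obj V} {j : ℕ} {U U' : X.scheme.Opens} (h : ContainsFj X j U)
    (h' : ContainsFj X j U') : ContainsFj X j (U ⊓ U') :=
  fun y hy => ⟨h y hy, h' y hy⟩

lemma containsFj_compl {X : Obj V} {j : ℕ} (C : Closeds X.scheme)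
    (h : ∀ y ∈ C, j < WeilCoh.codim X.scheme y) : ContainsFj X j C.compl :=
  fun y hy hyC => absurd (h y hyC) (by omega)

lemma codim_le_of_mem_closure {X : Obj V} {x y : X.scheme} (h : y ∈ closure ({x} : Set X.scheme)) :
    WeilCoh.codim X.scheme x ≤ WeilCoh.codim X.scheme y :=
  codim_le_of_specializes X (specializes_iff_mem_closure.2 h)

lemma eq_of_mem_closure {X : Obj V} {x y : X.scheme} (h : y ∈ closure ({x} : Set X.scheme))
    (hc : WeilCoh.codim X.scheme y ≤ WeilCoh.codim X.scheme x) : x = y := by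
  by_contra hne
  exact absurd (codim_lt_of_specializes X (specializes_iff_mem_closure.2 h) hne) (by omega)

lemma exists_good (X : Obj V) {j : ℕ} (s : Finset (X.cdPt (j + 1))) :
    ∃ Y : X.scheme.Opens, ContainsFj X (j + 1) Y ∧ Good X s Y := by
  classical
  let P := (s ×ˢ s).filter fun p => p.1 ≠ p.2
  let C : Closeds X.scheme := P.sup fun p =>
    ⟨closure ({p.1.1} : Set X.scheme) ∩ closure {p.2.1}, isClosed_closure.inter isClosed_closure⟩
  refine ⟨C.compl, containsFj_compl C fun y hy => ?_, fun x hx y hy hne => ?_⟩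
  · obtain ⟨p, hp, h1, h2⟩ := (mem_finsetSup _ _ _).1 hy
    have := (Finset.mem_filter.1 hp).2
    by_contra hlt
    have e1 := eq_of_mem_closure h1 (by rw [p.1.2]; omega)
    have e2 := eq_of_mem_closure h2 (by rw [p.2.2]; omega)
    exact this (Subtype.ext (e1.trans e2.symm))
  · refine Set.eq_empty_iff_forall_notMem.2 fun z ⟨hz, hzY⟩ => hzY ?_
    have : (⟨closure ({x.1} : Set X.scheme) ∩ closure {y.1},
        isClosed_closure.inter isClosed_closure⟩ : Closeds X.scheme) ≤ C :=
      Finset.le_sup (f := fun p : X.cdPt (j + 1) × X.cdPt (j + 1) => (⟨closure ({p.1.1} : Set X.scheme) ∩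
        closure {p.2.1}, isClosed_closure.inter isClosed_closure⟩ : Closeds X.scheme))
        (b := (x, y)) (Finset.mem_filter.2 ⟨Finset.mk_mem_product hx hy, hne⟩)
    exact this hz

/-- The complement of an open containing `F_j` is, near `F_(j+1)`, made of the closures of finitely
many of its points of codimension `j + 1`. -/
lemma exists_cover' (X : Obj V) {j : ℕ} (U : X.scheme.Opens) (hU : ContainsFj X j U) :
    ∃ s : Finset (X.cdPt (j + 1)), ∃ Y : X.scheme.Opens, ContainsFj X (j + 1) Y ∧ Good X s Y ∧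
      (∀ y ∈ Y, y ∈ U ∨ ∃ x ∈ s, y ∈ closure ({x.1} : Set X.scheme)) ∧ ∀ x ∈ s, x.1 ∉ U := by
  classical
  haveI : IsNoetherian X.scheme := IsConstructible.isNoetherian X.mem
  obtain ⟨S, hSf, hS, hZ⟩ := NoetherianSpace.exists_finite_set_closeds_irreducible
    (⟨(U : Set X.scheme)ᶜ, U.isOpen.isClosed_compl⟩ : Closeds X.scheme)
  lift S to Finset (Closeds X.scheme) using hSf
  have hmem : ∀ T ∈ S, ∀ y ∈ T, y ∉ U := fun T hT y hy => by
    have : T ≤ (⟨(U : Set X.scheme)ᶜ, U.isOpen.isClosed_compl⟩ : Closeds X.scheme) :=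
      hZ ▸ le_sSup hT
    exact this hy
  have hgen : ∀ T ∈ S, ∃ x, closure ({x} : Set X.scheme) = (T : Set X.scheme) := fun T hT =>
    QuasiSober.sober (hS T hT) T.isClosed
  choose gen hgen using hgen
  let s : Finset (X.cdPt (j + 1)) :=
    (S.attach.filter fun T => WeilCoh.codim X.scheme (gen T.1 T.2) = j + 1).attach.image fun T =>
      ⟨gen T.1.1 T.1.2, by have h := T.2; rw [Finset.mem_filter] at h; exact h.2⟩
  let C : Closeds X.scheme :=
    (S.attach.filter fun T => WeilCoh.codim X.scheme (gen T.1 T.2) ≠ j + 1).sup fun T => T.1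
  obtain ⟨Y₀, hY₀, hgood⟩ := exists_good X s
  refine ⟨s, C.compl ⊓ Y₀, containsFj_inter (containsFj_compl C fun y hy => ?_) hY₀,
    hgood.mono inf_le_right, fun y hy => ?_, fun x hx => ?_⟩
  · obtain ⟨⟨T, hT⟩, hf, hyT⟩ := (mem_finsetSup _ _ _).1 hy
    have hne := (Finset.mem_filter.1 hf).2
    change WeilCoh.codim X.scheme (gen T hT) ≠ j + 1 at hne
    have hyT' : y ∈ closure ({gen T hT} : Set X.scheme) := by rw [hgen T hT]; exact hyT
    have h1 := codim_le_of_mem_closure hyT'
    have h2 : gen T hT ∈ T := by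
      rw [← SetLike.mem_coe, ← hgen T hT]; exact subset_closure rfl
    have h3 : j < WeilCoh.codim X.scheme (gen T hT) := by
      by_contra h
      exact hmem T hT _ h2 (hU _ (by omega))
    omega
  · by_cases hyU : y ∈ U
    · exact Or.inl hyU
    · right
      have hyZ : y ∈ sSup (↑S : Set (Closeds X.scheme)) := hZ ▸ hyU
      rw [← Finset.sup_id_eq_sSup, mem_finsetSup] at hyZ
      obtain ⟨T, hT, hyT⟩ := hyZ
      by_cases hc : WeilCoh.codim X.scheme (gen T hT) = j + 1
      · refine ⟨⟨gen T hT, hc⟩, Finset.mem_image.2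
          ⟨⟨⟨T, hT⟩, Finset.mem_filter.2 ⟨Finset.mem_attach _ _, hc⟩⟩, Finset.mem_attach _ _, rfl⟩, ?_⟩
        change y ∈ closure ({gen T hT} : Set X.scheme)
        rw [hgen T hT]; exact hyT
      · exact absurd ((mem_finsetSup _ _ _).2
          ⟨⟨T, hT⟩, Finset.mem_filter.2 ⟨Finset.mem_attach _ _, hc⟩, hyT⟩) hy.1
  · obtain ⟨⟨⟨T, hT⟩, hf⟩, -, rfl⟩ := Finset.mem_image.1 hx
    refine hmem T hT _ ?_
    change gen T hT ∈ T
    rw [← SetLike.mem_coe, ← hgen T hT]
    exact subset_closure rfl

lemma exists_cover (X : Obj V) {j : ℕ} (U : X.scheme.Opens) (hU : ContainsFj X j U) :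
    ∃ s : Finset (X.cdPt (j + 1)), ∃ Y : X.scheme.Opens, ContainsFj X (j + 1) Y ∧ Good X s Y ∧
      ∀ y ∈ Y, y ∈ U ∨ ∃ x ∈ s, y ∈ closure ({x.1} : Set X.scheme) := by
  obtain ⟨s, Y, h1, h2, h3, -⟩ := exists_cover' X U hU
  exact ⟨s, Y, h1, h2, h3⟩

end Position

end BMLib
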