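import Groth.Agent.BMLib.Geom
import Mathlib.Algebra.Category.ModuleCat.FilteredColimits
import Mathlib.CategoryTheory.Filtered.Basic
import Mathlib.CategoryTheory.Limits.ConcreteCategory.Basic

/-!
# Elements of the open-system colimits
-/

universe u

noncomputable section

open AlgebraicGeometry CategoryTheory CategoryTheory.Limits TopologicalSpace Opposite BMCoh

namespace BMLib

variable {V : ObjectProperty Scheme.{u}} [IsConstructible V] {R : Type u} [CommRing R] {A : Coefs R}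
variable (T : PreTheory V R A)

omit [IsConstructible V] in
lemma comp_apply' {M N L : ModuleCat.{u} R} (f : M ⟶ N) (g : N ⟶ L) (a : M) :
    (f ≫ g).hom a = g.hom (f.hom a) := rfl

lemma pull_comp {X Y Z : Obj V} (f : X ⟶ Y) (g : Y ⟶ Z) (M : A.Cat) (i n : ℤ) :
    T.pull (f ≫ g) M i n = T.pull g M i n ≫ T.pull f M i n := by
  simp only [PreTheory.pull, op_comp, Functor.map_comp, NatTrans.comp_app]

lemma pull_id (X : Obj V) (M : A.Cat) (i n : ℤ) : T.pull (𝟙 X) M i n = 𝟙 _ := by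
  simp only [PreTheory.pull, op_id, CategoryTheory.Functor.map_id, NatTrans.id_app]

section Colim

variable (X : Obj V) (P : X.scheme.Opens → Prop) (M : A.Cat) (i n : ℤ)

/-- The class of an element in the open-system colimit. -/
def cls (U : Idx X P) (a : T.gp (X.res U.1) M i n) : (T.ocolim X P i n).obj M :=
  ((T.ocolimι X P i n U).app M).hom a

variable {X P M i n}

/-- Restriction between members of an index family. -/
def shrink {U U' : Idx X P} (h : U'.1 ≤ U.1) : T.gp (X.res U.1) M i n ⟶ T.gp (X.res U'.1) M i n :=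
  T.pull (X.resLE h (U'.2.2.trans U.2.2.symm)) M i n

lemma cls_shrink {U U' : Idx X P} (h : U'.1 ≤ U.1) (a : T.gp (X.res U.1) M i n) :
    cls T X P M i n U' ((shrink T h).hom a) = cls T X P M i n U a := by
  have := colimit.w ((idxDiag X P).op ⋙ T.H i n) (homOfLE (show U' ≤ U from h)).op
  exact congrArg (fun φ : (T.H i n).obj (op (X.res U.1)) ⟶ T.ocolim X P i n => (φ.app M).hom a) this

variable [IsFiltered (Idx X P)ᵒᵖ]

lemma exists_cls (c : (T.ocolim X P i n).obj M) : ∃ U a, cls T X P M i n U a = c := by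
  obtain ⟨U, a, h⟩ := Concrete.isColimit_exists_rep _
    (isColimitOfPreserves ((evaluation A.Cat (ModuleCat.{u} R)).obj M)
      (colimit.isColimit ((idxDiag X P).op ⋙ T.H i n))) c
  exact ⟨U.unop, a, h⟩

lemma cls_eq_zero {U : Idx X P} {a : T.gp (X.res U.1) M i n} (h : cls T X P M i n U a = 0) :
    ∃ (U' : Idx X P) (hle : U'.1 ≤ U.1), (shrink T hle).hom a = 0 := by
  have h' : cls T X P M i n U a = cls T X P M i n U 0 := by
    rw [h, cls, map_zero]
  obtain ⟨U', f, g, e⟩ := (Concrete.isColimit_rep_eq_iff_exists _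
    (isColimitOfPreserves ((evaluation A.Cat (ModuleCat.{u} R)).obj M)
      (colimit.isColimit ((idxDiag X P).op ⋙ T.H i n))) (i := op U) (j := op U) a 0).1 h'
  refine ⟨U'.unop, f.unop.le, ?_⟩
  simp only [map_zero] at e
  exact e

omit [IsFiltered (Idx X P)ᵒᵖ] in
lemma ocolimMap_cls {Q : X.scheme.Opens → Prop} (h : ∀ U, P U → Q U) (U : Idx X P)
    (a : T.gp (X.res U.1) M i n) :
    ((T.ocolimMap X h i n).app M).hom (cls T X P M i n U a) =
      cls T X Q M i n ⟨U.1, h _ U.2.1, U.2.2⟩ a := by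
  have := colimit.ι_pre ((idxDiag X Q).op ⋙ T.H i n) (idxIncl X h).op (op U)
  exact congrArg (fun φ : (T.H i n).obj (op (X.res U.1)) ⟶ T.ocolim X Q i n => (φ.app M).hom a) this

end Colim

instance isFiltered_ptIdx (X : Obj V) (x : X.scheme) : IsFiltered (ptIdx X x)ᵒᵖ := by
  have : IsCodirectedOrder (ptIdx X x) := ⟨fun W W' =>
    ⟨⟨W.1 ⊓ W'.1, ⟨ptGen X x, ptGen_mem W.2.1, ptGen_mem W'.2.1⟩,
      dim_open_ptSub ⟨ptGen X x, ptGen_mem W.2.1, ptGen_mem W'.2.1⟩⟩,
      (inf_le_left : W.1 ⊓ W'.1 ≤ W.1), (inf_le_right : W.1 ⊓ W'.1 ≤ W'.1)⟩⟩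
  have : Nonempty (ptIdx X x) := ⟨⟨⊤, ⟨ptGen X x, trivial⟩, dim_top _⟩⟩
  infer_instance

instance isFiltered_fjIdx (X : Obj V) (j : ℕ) : IsFiltered (Idx X (ContainsFj X j))ᵒᵖ := by
  have : IsCodirectedOrder (Idx X (ContainsFj X j)) := ⟨fun U U' =>
    ⟨⟨U.1 ⊓ U'.1, containsFj_inter U.2.1 U'.2.1,
      dim_opens_of_containsFj (containsFj_inter U.2.1 U'.2.1)⟩,
      (inf_le_left : U.1 ⊓ U'.1 ≤ U.1), (inf_le_right : U.1 ⊓ U'.1 ≤ U'.1)⟩⟩
  have : Nonempty (Idx X (ContainsFj X j)) := ⟨⟨⊤, fun _ _ => trivial, dim_top _⟩⟩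
  infer_instance

end BMLib
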