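import Groth.Agent.BMLib.Exact
import Mathlib.Algebra.Category.ModuleCat.Basic

/-!
# Empty objects, disjoint unions, and a criterion for restriction between levels to be bijective
-/

universe u

noncomputable section

open AlgebraicGeometry CategoryTheory CategoryTheory.Limits TopologicalSpace Opposite BMCoh

namespace BMLib

variable {V : ObjectProperty Scheme.{u}} [IsConstructible V] {R : Type u} [CommRing R] {A : Coefs R}
variable (T : PreTheory V R A)

omit [IsConstructible V] in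
lemma eq_zero_of_isZero {N : ModuleCat.{u} R} (h : IsZero N) (z : N) : z = 0 :=
  haveI := ModuleCat.subsingleton_of_isZero h
  Subsingleton.elim _ _

lemma pull_injective_of_isIso {W Z : Obj V} (f : W ⟶ Z) [IsIso f.hom] (M : A.Cat) (i n : ℤ) :
    Function.Bijective (T.pull f M i n).hom := by
  let g : Z ⟶ W := ⟨inv f.hom, inferInstance, f.dim_eq.symm⟩
  have h1 : g ≫ f = 𝟙 Z := BMCoh.Hom.ext (IsIso.inv_hom_id _)
  have h2 : f ≫ g = 𝟙 W := BMCoh.Hom.ext (IsIso.hom_inv_id _)
  refine Function.bijective_iff_has_inverse.2 ⟨(T.pull g M i n).hom, fun a => ?_, fun a => ?_⟩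
  · rw [← comp_apply', ← pull_comp T, h1, pull_id T]; rfl
  · rw [← comp_apply', ← pull_comp T, h2, pull_id T]; rfl

/-- The groups of the empty object vanish. -/
lemma eq_zero_of_isEmpty (E : Obj V) [IsEmpty ↥E.scheme] (M : A.Cat) (i n : ℤ) (a : T.gp E M i n) :
    a = 0 := by
  obtain ⟨i, rfl⟩ : ∃ i₀, i = i₀ + 1 := ⟨i - 1, by ring⟩
  let D : Decomp E :=
    { Z := E
      U := E
      i := 𝟙 _
      closedImm := inferInstance
      j := 𝟙 E
      range_eq := Subsingleton.elim _ _ }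
  have hc : relCodim E.scheme E.scheme = 0 := by simp [relCodim]
  have hi : i + 1 = i + 1 + 2 * relCodim E.scheme E.scheme := by rw [hc]; ring
  have hn : n = n + relCodim E.scheme E.scheme := by rw [hc]; ring
  have e := (T.exact_push_pull D M i n (i + 1) n hi hn).apply_apply_eq_zero a
  change (T.pull (𝟙 E) M (i + 1) n).hom ((T.push (𝟙 E.scheme) M (i + 1) n (i + 1) n hi hn).hom a) = 0 at e
  rw [T.push_id E M (i + 1) n hi hn, pull_id T] at e
  exact e

/-- The groups of a disjoint union are the products. -/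
theorem pull_prod_bijective {X Y W : Obj V} (iX : X ⟶ W) (iY : Y ⟶ W)
    (h : Set.range iX.hom = (Set.range iY.hom)ᶜ) (M : A.Cat) (i n : ℤ) :
    Function.Bijective (fun a : T.gp W M i n => ((T.pull iX M i n).hom a, (T.pull iY M i n).hom a)) := by
  have h' : Set.range iY.hom = (Set.range iX.hom)ᶜ := by rw [h, compl_compl]
  haveI : IsClosedImmersion iX.hom := IsClosedImmersion.of_isPreimmersion _ (by
    rw [h]; exact iY.hom.isOpenEmbedding.isOpen_range.isClosed_compl)
  haveI : IsClosedImmersion iY.hom := IsClosedImmersion.of_isPreimmersion _ (by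
    rw [h']; exact iX.hom.isOpenEmbedding.isOpen_range.isClosed_compl)
  obtain ⟨i, rfl⟩ : ∃ i₀, i = i₀ + 1 := ⟨i - 1, by ring⟩
  let DX : Decomp W := ⟨X, Y, iX.hom, inferInstance, iY, h'⟩
  let DY : Decomp W := ⟨Y, X, iY.hom, inferInstance, iX, h⟩
  have hX := relCodim_hom iX
  have hY := relCodim_hom iY
  have eX := T.exact_push_pull DX M i n (i + 1) n
    (by change i + 1 = i + 1 + 2 * relCodim X.scheme W.scheme; rw [hX]; ring)
    (by change n = n + relCodim X.scheme W.scheme; rw [hX]; ring)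
  have eY := T.exact_push_pull DY M i n (i + 1) n
    (by change i + 1 = i + 1 + 2 * relCodim Y.scheme W.scheme; rw [hY]; ring)
    (by change n = n + relCodim Y.scheme W.scheme; rw [hY]; ring)
  have sX : ∀ a, (T.pull iX M (i + 1) n).hom ((pushP T iX M (i + 1) n).hom a) = a := fun a =>
    congrArg (fun φ => φ.hom a) (pushP_pull_self T iX M (i + 1) n)
  have sY : ∀ b, (T.pull iY M (i + 1) n).hom ((pushP T iY M (i + 1) n).hom b) = b := fun b =>
    congrArg (fun φ => φ.hom b) (pushP_pull_self T iY M (i + 1) n)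
  refine ⟨fun a a' he => ?_, fun ⟨a, b⟩ => ⟨(pushP T iX M (i + 1) n).hom a +
    (pushP T iY M (i + 1) n).hom b, ?_⟩⟩
  · simp only [Prod.mk.injEq] at he
    obtain ⟨w, hw⟩ := (eX (a - a')).1
      (show (T.pull iY M (i + 1) n).hom (a - a') = 0 by rw [map_sub, he.2, sub_self])
    have hw0 : (T.pull iX M (i + 1) n).hom ((pushP T iX M (i + 1) n).hom w) = 0 := by
      rw [show (pushP T iX M (i + 1) n).hom w = a - a' from hw, map_sub, he.1, sub_self]
    rw [sX] at hw0
    rw [← sub_eq_zero, ← hw, hw0, map_zero]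
  · have a0 : (T.pull iY M (i + 1) n).hom ((pushP T iX M (i + 1) n).hom a) = 0 :=
      eX.apply_apply_eq_zero a
    have b0 : (T.pull iX M (i + 1) n).hom ((pushP T iY M (i + 1) n).hom b) = 0 :=
      eY.apply_apply_eq_zero b
    simp only [map_add, sX, sY, a0, b0, add_zero, zero_add]

variable {X : Obj V} {j : ℕ}

/-- Restriction between adjacent levels is injective if the groups of the points vanish. -/
theorem fjRes_injective (M : A.Cat) (i n i' n' : ℤ) (hi : i = i' + 2 * ((j : ℤ) + 1))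
    (hn : n = n' + ((j : ℤ) + 1)) (h0 : ∀ x : X.cdPt (j + 1), IsZero (T.ptGp X x.1 M i' n')) :
    Function.Injective ((T.fjRes X (Nat.le_succ j) i n).app M).hom := by
  classical
  refine (injective_iff_map_eq_zero _).2 fun c hc => ?_
  obtain ⟨U, a, rfl⟩ := exists_cls T c
  rw [ocolimMap_cls] at hc
  obtain ⟨U', hle, h00⟩ := cls_eq_zero T hc
  obtain ⟨s, Y₀, hY₀, hgood, hcov⟩ := exists_cover X U'.1 U'.2.1
  let Y := Y₀ ⊓ U.1
  have hY : ContainsFj X (j + 1) Y := containsFj_inter hY₀ U.2.1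
  let aY : T.gp (X.res Y) M i n := (shrink T (U := U) (U' := fIdx hY) inf_le_right).hom a
  have haY : cls T X _ M i n (fIdx hY) aY = cls T X _ M i n U a := cls_shrink T _ a
  rcases s.eq_empty_or_nonempty with rfl | hne
  · have hY' : Y ≤ U'.1 := fun y hy =>
      (hcov y hy.1).elim id fun ⟨z, hz, _⟩ => absurd hz (Finset.notMem_empty z)
    have e : aY = 0 := by
      refine (pull_resLE_resLE T hY' hle ((dim_opens_of_containsFj hY).trans U'.2.2.symm)
        (U'.2.2.trans U.2.2.symm) M i n a).symm.trans ?_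
      exact (congrArg _ h00).trans (map_zero _)
    rw [← haY, e, cls_map_zero]
  · let S : Strat X j := ⟨s, Y, containsFj_mono X (Nat.le_succ j) Y hY, fun x _ => hY x.1 x.2.le,
      hgood.mono inf_le_left, hne⟩
    have hopn : S.opn ≤ U'.1 := opn_le_of_cover S fun y hy => hcov y hy.1
    have hcD : relCodim S.D.Z.scheme (X.res S.Y).scheme = (j : ℤ) + 1 := S.codim_D
    have hzero : (T.pull S.D.j M i n).hom aY = 0 := by
      refine (pull_resLE_resLE T S.opn_le (show Y ≤ U.1 from inf_le_right) _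
        ((fIdx hY).2.2.trans U.2.2.symm) M i n a).trans ?_
      refine (pull_resLE_resLE T hopn hle (S.opnIdx.2.2.trans U'.2.2.symm)
        (U'.2.2.trans U.2.2.symm) M i n a).symm.trans ?_
      exact (congrArg _ h00).trans (map_zero _)
    obtain ⟨k, rfl⟩ : ∃ k, i = k + 1 := ⟨i - 1, by ring⟩
    obtain ⟨r, hr⟩ :=
      (T.exact_push_pull S.D M k n i' n' (by rw [hcD]; omega) (by rw [hcD]; omega) aY).1 hzero
    have hz : ∀ x (hx : x ∈ S.s), ∃ Y₁, ContainsFj X (j + 1) Y₁ ∧ ∀ Y' (h' : Y' ≤ S.Y), Y' ≤ Y₁ →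
        ∀ hx', (T.pull (pieceLE X x.1 (S.hmem x hx) h' hx') M i' n').hom
          ((T.pull (S.g x hx) M i' n').hom r) = 0 := fun x hx => by
      refine pcls_eq_zero T X M i' n' x.1 x.2 ?_
      exact eq_zero_of_isZero (h0 x) _
    choose Yf hYf hzf using hz
    let Y₁ := Y ⊓ S.s.attach.inf fun k => Yf k.1 k.2
    have hY₁ : ContainsFj X (j + 1) Y₁ :=
      containsFj_inter hY (containsFj_finsetInf _ _ fun k _ => hYf k.1 k.2)
    rw [← haY, ← hr, ← cls_shrink T (U := fIdx hY) (U' := fIdx hY₁) inf_le_left,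
      ← S.glue_pull T r, S.push_glue T, map_sum, Finset.sum_eq_zero, cls_map_zero]
    intro l _
    refine (pull_push_piece T l.1.1 (S.hmem l.1 l.2) inf_le_left (hY₁ l.1.1 l.1.2.le) _ M i' n' (k + 1) n
      _ _ (by rw [relCodim_piece X l.1.1 Y₁ _ l.1.2 (dim_opens_of_containsFj hY₁)]; omega)
      (by rw [relCodim_piece X l.1.1 Y₁ _ l.1.2 (dim_opens_of_containsFj hY₁)]; omega) _).trans ?_
    rw [hzf l.1 l.2 Y₁ inf_le_left
      (inf_le_right.trans (Finset.inf_le (f := fun k : S.s => Yf k.1 k.2) (Finset.mem_attach _ l)))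
      (hY₁ l.1.1 l.1.2.le), map_zero]

/-- Restriction between adjacent levels is surjective if the groups of the points vanish. -/
theorem fjRes_surjective (M : A.Cat) (i n i' n' : ℤ) (hi : i' = i + 1 - 2 * ((j : ℤ) + 1))
    (hn : n' = n - ((j : ℤ) + 1)) (h1 : ∀ x : X.cdPt (j + 1), IsZero (T.ptGp X x.1 M i' n')) :
    Function.Surjective ((T.fjRes X (Nat.le_succ j) i n).app M).hom := by
  classical
  intro c
  obtain ⟨U, a, rfl⟩ := exists_cls T c
  obtain ⟨s, Y₀, hY₀, hgood, hcov⟩ := exists_cover X U.1 U.2.1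
  rcases s.eq_empty_or_nonempty with rfl | hne
  · have hle : Y₀ ≤ U.1 := fun y hy =>
      (hcov y hy).elim id fun ⟨z, hz, _⟩ => absurd hz (Finset.notMem_empty z)
    let U' : Idx X (ContainsFj X j) := fIdx (containsFj_mono X (Nat.le_succ j) Y₀ hY₀)
    refine ⟨cls T X _ M i n (fIdx hY₀) ((shrink T (U := U) (U' := U') hle).hom a), ?_⟩
    rw [ocolimMap_cls]
    exact cls_shrink T (U := U) (U' := U') hle a
  · let S : Strat X j :=
      ⟨s, Y₀, containsFj_mono X (Nat.le_succ j) Y₀ hY₀, fun x _ => hY₀ x.1 x.2.le, hgood, hne⟩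
    have hopn : S.opn ≤ U.1 := opn_le_of_cover S hcov
    obtain ⟨c', hc'⟩ := exists_extend T S hY₀ M i n i' n' hi hn
      ((shrink T (U := U) (U' := S.opnIdx) hopn).hom a) fun x hx => eq_zero_of_isZero (h1 x) _
    exact ⟨c', hc'.trans (cls_shrink T (U := U) (U' := S.opnIdx) hopn a)⟩

theorem fjRes_bijective (M : A.Cat) (i n : ℤ)
    (h0 : ∀ x : X.scheme, WeilCoh.codim X.scheme x = j + 1 →
      IsZero (T.ptGp X x M (i - 2 * ((j : ℤ) + 1)) (n - ((j : ℤ) + 1))))
    (h1 : ∀ x : X.scheme, WeilCoh.codim X.scheme x = j + 1 →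
      IsZero (T.ptGp X x M (i + 1 - 2 * ((j : ℤ) + 1)) (n - ((j : ℤ) + 1)))) :
    Function.Bijective ((T.fjRes X (Nat.le_succ j) i n).app M).hom :=
  ⟨fjRes_injective T M i n _ _ (by ring) (by ring) fun x => h0 x.1 x.2,
    fjRes_surjective T M i n _ _ rfl rfl fun x => h1 x.1 x.2⟩

end BMLib
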