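import Groth.Agent.BMLib.Criterion

/-!
# Restriction to high levels, and to levels shifted by a closed subscheme
-/

universe u

noncomputable section

open AlgebraicGeometry CategoryTheory CategoryTheory.Limits TopologicalSpace Opposite BMCoh

namespace BMLib

variable {V : ObjectProperty Scheme.{u}} [IsConstructible V] {R : Type u} [CommRing R] {A : Coefs R}
variable (T : PreTheory V R A) {X : Obj V}

lemma toFj_apply (j : ℕ) (M : A.Cat) (i n : ℤ) (a : T.gp X M i n) :
    ((T.toFj X j i n).app M).hom a =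
      cls T X (ContainsFj X j) M i n ⟨⊤, fun _ _ => trivial, dim_top X.scheme⟩
        ((T.pull X.resTop M i n).hom a) := rfl

/-- From the dimension on, the groups of the loci are those of the object. -/
theorem toFj_bijective_of_dim_le (j : ℕ) (hj : WeilCoh.dim X.scheme ≤ j) (M : A.Cat) (i n : ℤ) :
    Function.Bijective ((T.toFj X j i n).app M).hom := by
  haveI : IsIso X.resTop.hom := X.scheme.topIso.isIso_hom
  have hb := pull_injective_of_isIso T X.resTop M i n
  let top : Idx X (ContainsFj X j) := ⟨⊤, fun _ _ => trivial, dim_top X.scheme⟩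
  have htop : ∀ U : Idx X (ContainsFj X j), U = top := fun U =>
    Subtype.ext (eq_top_iff.2 fun y _ => U.2.1 y (by
      have := pdim_le_dim X y
      simp only [WeilCoh.codim]
      omega))
  refine ⟨(injective_iff_map_eq_zero _).2 fun a ha => ?_, fun c => ?_⟩
  · rw [toFj_apply] at ha
    obtain ⟨U', hle, h0⟩ := cls_eq_zero T (U := top) ha
    obtain rfl := htop U'
    have e : shrink T (U := top) (U' := top) hle (M := M) (i := i) (n := n) = 𝟙 _ := by
      refine Eq.trans ?_ (pull_id T _ M i n)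
      exact congrArg (fun φ => T.pull φ M i n) (BMCoh.Hom.ext (Scheme.homOfLE_rfl _ _))
    rw [e] at h0
    exact hb.1 ((show (T.pull X.resTop M i n).hom a = 0 from h0).trans (map_zero _).symm)
  · obtain ⟨U, b, rfl⟩ := exists_cls T c
    obtain rfl := htop U
    obtain ⟨a, rfl⟩ := hb.2 b
    exact ⟨a, toFj_apply T j M i n a⟩

lemma fjRes_toFj {j m : ℕ} (h : j ≤ m) (M : A.Cat) (i n : ℤ) (a : T.gp X M i n) :
    ((T.fjRes X h i n).app M).hom (((T.toFj X m i n).app M).hom a) = ((T.toFj X j i n).app M).hom a := by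
  rw [toFj_apply, toFj_apply, ocolimMap_cls]

/-- In degrees at most `2j` restriction to `F_j` is bijective. -/
theorem toFj_bijective_of_le
    (hv : ∀ (X : Obj V) (x : X.scheme) (M : A.Cat) (i n : ℤ), i < 0 → IsZero (T.ptGp X x M i n))
    (M : A.Cat) (j : ℕ) (i n : ℤ) (hj : i ≤ 2 * (j : ℤ)) :
    Function.Bijective ((T.toFj X j i n).app M).hom := by
  suffices ∀ k j : ℕ, WeilCoh.dim X.scheme ≤ j + k → i ≤ 2 * (j : ℤ) →
      Function.Bijective ((T.toFj X j i n).app M).hom from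
    this _ j (Nat.le_add_left _ _) hj
  intro k
  induction k with
  | zero => exact fun j h _ => toFj_bijective_of_dim_le T j h M i n
  | succ k ih =>
    intro j h hj
    have h1 := fjRes_bijective T (X := X) (j := j) M i n (fun x _ => hv X x M _ _ (by omega))
      (fun x _ => hv X x M _ _ (by omega))
    have h2 := ih (j + 1) (by omega) (by push_cast; omega)
    have e : ⇑((T.toFj X j i n).app M).hom =
        ((T.fjRes X (Nat.le_succ j) i n).app M).hom ∘ ((T.toFj X (j + 1) i n).app M).hom :=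
      funext fun a => (fjRes_toFj T _ M i n a).symm
    rw [e]
    exact h1.comp h2

/-- Removing points of high codimension does not change the group. -/
theorem pull_bijective_of_containsFj
    (hv : ∀ (X : Obj V) (x : X.scheme) (M : A.Cat) (i n : ℤ), i < 0 → IsZero (T.ptGp X x M i n))
    {U : Obj V} (f : U ⟶ X) {j : ℕ}
    (hf : ∀ x : X.scheme, x ∉ Set.range f.hom → j < WeilCoh.codim X.scheme x)
    (M : A.Cat) (i n : ℤ) (hj : i ≤ 2 * (j : ℤ)) : Function.Bijective (T.pull f M i n).hom := by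
  let Y := f.hom.opensRange
  have hY : ContainsFj X j Y := fun y hy => by
    by_contra h
    exact absurd (hf y h) (by omega)
  have hd : WeilCoh.dim (Y : Scheme.{u}) = WeilCoh.dim X.scheme := dim_opens_of_containsFj hY
  let e : U ⟶ X.res Y := ⟨f.hom.isoOpensRange.hom, inferInstance, f.dim_eq.trans hd.symm⟩
  haveI : IsIso e.hom := f.hom.isoOpensRange.isIso_hom
  have hfe : e ≫ X.resι Y hd = f := BMCoh.Hom.ext (Scheme.Hom.isoOpensRange_hom_ι f.hom)
  rw [← hfe, pull_comp T, ModuleCat.hom_comp, LinearMap.coe_comp]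
  refine (pull_injective_of_isIso T e M i n).comp ?_
  let top : Idx X (ContainsFj X j) := ⟨⊤, fun _ _ => trivial, dim_top X.scheme⟩
  have key : ∀ a : T.gp X M i n, ((T.toFj X j i n).app M).hom a =
      cls T X _ M i n (fIdx hY) ((T.pull (X.resι Y hd) M i n).hom a) := fun a => by
    rw [toFj_apply, ← cls_shrink T (U := top) (U' := fIdx hY) le_top, shrink, ← comp_apply',
      ← pull_comp T]
    refine congrArg (cls T X _ M i n (fIdx hY)) ?_
    refine congrArg (fun φ : X.res Y ⟶ X => (T.pull φ M i n).hom a) ?_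
    exact BMCoh.Hom.ext (Scheme.homOfLE_ι _ (le_top : Y ≤ ⊤))
  have hcls : ∀ b : T.gp (X.res Y) M i n, cls T X _ M i n (fIdx hY) b = 0 → b = 0 := fun b hb => by
    obtain ⟨U', hle, h0⟩ := cls_eq_zero T hb
    let Y' : (X.res Y).scheme.Opens := Y.ι ⁻¹ᵁ U'.1
    have hY' : ContainsFj (X.res Y) j Y' := fun y hy => U'.2.1 (Y.ι y) (by
      simp only [WeilCoh.codim, Obj.res_scheme, pdim_opens, hd] at hy
      exact hy)
    have hd' : WeilCoh.dim (Y' : Scheme.{u}) = WeilCoh.dim (X.res Y).scheme :=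
      dim_opens_of_containsFj hY'
    let q : (X.res Y).res Y' ⟶ X.res U'.1 :=
      ⟨Y.ι ∣_ U'.1, inferInstance, (hd'.trans hd).trans U'.2.2.symm⟩
    have hq : q ≫ X.resLE hle (U'.2.2.trans hd.symm) = (X.res Y).resι Y' hd' := by
      refine BMCoh.Hom.ext ((cancel_mono Y.ι).1 ?_)
      change (Y.ι ∣_ U'.1 ≫ X.scheme.homOfLE hle) ≫ Y.ι = Y'.ι ≫ Y.ι
      rw [Category.assoc, Scheme.homOfLE_ι, morphismRestrict_ι]
    have h1 : (T.pull ((X.res Y).resι Y' hd') M i n).hom b = 0 := by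
      rw [← hq, pull_comp T, comp_apply']
      exact (congrArg _ h0).trans (map_zero _)
    refine (injective_iff_map_eq_zero _).1 (toFj_bijective_of_le T hv (X := X.res Y) M j i n hj).1 b ?_
    rw [toFj_apply, ← cls_shrink T (U := ⟨⊤, fun _ _ => trivial, dim_top _⟩) (U' := fIdx hY') le_top,
      shrink, ← comp_apply', ← pull_comp T]
    refine (congrArg (cls T (X.res Y) _ M i n (fIdx hY')) ?_).trans (cls_map_zero T _)
    refine (congrArg (fun φ : (X.res Y).res Y' ⟶ X.res Y => (T.pull φ M i n).hom b) ?_).trans h1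
    exact BMCoh.Hom.ext (Scheme.homOfLE_ι _ (le_top : Y' ≤ ⊤))
  have hb := toFj_bijective_of_le T hv (X := X) M j i n hj
  refine ⟨(injective_iff_map_eq_zero _).2 fun a ha => (injective_iff_map_eq_zero _).1 hb.1 a
    (by rw [key, ha, cls_map_zero]), fun b => ?_⟩
  obtain ⟨a, ha⟩ := hb.2 (cls T X _ M i n (fIdx hY) b)
  refine ⟨a, sub_eq_zero.1 (hcls _ ?_)⟩
  rw [key] at ha
  simp only [cls, map_sub]
  exact sub_eq_zero.2 ha

/-- Every codimension up to that of a given point occurs. -/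
lemma exists_codim_eq {c : ℕ} {y : X.scheme} (hy : c ≤ WeilCoh.codim X.scheme y) :
    ∃ x : X.scheme, WeilCoh.codim X.scheme x = c := by
  haveI : Nonempty ↥X.scheme := ⟨y⟩
  obtain ⟨d, hd⟩ := exists_krullDim_eq X
  obtain ⟨l, hl⟩ := Order.le_krullDim_iff.1 (le_of_eq hd.symm)
  choose w hw using fun k => QuasiSober.sober (l k).2 (l k).3
  have hdim := dim_eq_of_krullDim hd
  have hle : ∀ x : X.scheme, WeilCoh.codim X.scheme x ≤ d := fun x => by
    simp only [WeilCoh.codim, hdim]; omega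
  have hanti : ∀ k k', k < k' → WeilCoh.codim X.scheme (w k') < WeilCoh.codim X.scheme (w k) := by
    intro k k' hk
    have hs := l.strictMono hk
    have e1 : closure ({w k} : Set X.scheme) = (l k : Set X.scheme) := hw k
    have e2 : closure ({w k'} : Set X.scheme) = (l k' : Set X.scheme) := hw k'
    refine codim_lt_of_specializes X (specializes_iff_mem_closure.2 ?_) fun e => hs.ne ?_
    · rw [e2]; exact hs.le (by rw [← SetLike.mem_coe, ← e1]; exact subset_closure rfl)
    · exact SetLike.coe_injective (by rw [← e1, ← e2, e])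
  let g : Fin (l.length + 1) → Fin (l.length + 1) := fun k =>
    ⟨WeilCoh.codim X.scheme (w k), by have := hle (w k); omega⟩
  have hg : Function.Injective g := fun k k' h => by
    have h' : WeilCoh.codim X.scheme (w k) = WeilCoh.codim X.scheme (w k') := congrArg Fin.val h
    rcases lt_trichotomy k k' with hk | hk | hk
    · exact absurd h' (hanti k k' hk).ne'
    · exact hk
    · exact absurd h' (hanti k' k hk).ne
  obtain ⟨k, hk⟩ := Finite.injective_iff_surjective.1 hg ⟨c, by have := hle y; omega⟩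
  exact ⟨w k, congrArg Fin.val hk⟩

section Closed

variable {Z : Obj V} (ι : Z.scheme ⟶ X.scheme)

/-- The complement of a closed subscheme. -/
def closedCompl [IsClosedImmersion ι] : X.scheme.Opens :=
  ⟨(Set.range ι)ᶜ, ι.isClosedEmbedding.isClosed_range.isOpen_compl⟩

variable [IsClosedImmersion ι] {j m : ℕ}

lemma codim_map (hd : WeilCoh.dim Z.scheme + (j + 1) = WeilCoh.dim X.scheme) (z : Z.scheme) :
    WeilCoh.codim X.scheme (ι z) = j + 1 + WeilCoh.codim Z.scheme z := by
  have h1 := codim_add_pdim X (ι z)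
  have h2 := codim_add_pdim Z z
  rw [pdim_map] at h1
  omega

lemma containsFj_closedCompl (hd : WeilCoh.dim Z.scheme + (j + 1) = WeilCoh.dim X.scheme) :
    ContainsFj X j (closedCompl ι) := by
  rintro y hy ⟨z, rfl⟩
  rw [codim_map ι hd] at hy
  omega

lemma containsFj_preimage (hd : WeilCoh.dim Z.scheme + (j + 1) = WeilCoh.dim X.scheme)
    {Y : X.scheme.Opens} (hY : ContainsFj X (j + 1 + m) Y) : ContainsFj Z m (ι ⁻¹ᵁ Y) :=
  fun z hz => hY (ι z) (by rw [codim_map ι hd]; omega)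

/-- Shrink an open to remove the image of the closed complement of an open of `Z`. -/
lemma exists_open_preimage_le (hd : WeilCoh.dim Z.scheme + (j + 1) = WeilCoh.dim X.scheme)
    {W : Z.scheme.Opens} (hW : ContainsFj Z m W) :
    ∃ Y, ContainsFj X (j + 1 + m) Y ∧ ι ⁻¹ᵁ Y ≤ W ∧ closedCompl ι ≤ Y := by
  let C : Closeds X.scheme :=
    ⟨ι '' (W : Set Z.scheme)ᶜ, ι.isClosedEmbedding.isClosedMap _ W.isOpen.isClosed_compl⟩
  refine ⟨C.compl, containsFj_compl C ?_, fun z hz => ?_, fun y hy => ?_⟩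
  · rintro y ⟨z, hz, rfl⟩
    rw [codim_map ι hd]
    by_contra h
    exact hz (hW z (by omega))
  · by_contra h
    exact hz ⟨z, h, rfl⟩
  · rintro ⟨z, -, rfl⟩
    exact hy ⟨z, rfl⟩

/-- The decomposition of an open by a closed subscheme. -/
@[reducible] def closedDecomp {Y : X.scheme.Opens} (hY : ContainsFj X j Y)
    (hd : WeilCoh.dim Z.scheme + (j + 1) = WeilCoh.dim X.scheme) : Decomp (X.res Y) where
  Z := Z.res (ι ⁻¹ᵁ Y)
  U := X.res (Y ⊓ closedCompl ι)
  i := ι ∣_ Y
  closedImm := IsZariskiLocalAtTarget.restrict (P := @IsClosedImmersion) ‹_› Y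
  j := X.resLE inf_le_left
    ((dim_opens_of_containsFj (containsFj_inter hY (containsFj_closedCompl ι hd))).trans
      (dim_opens_of_containsFj hY).symm)
  range_eq := by
    ext z
    constructor
    · rintro ⟨w, rfl⟩ ⟨v, hv⟩
      have e1 := congr($(morphismRestrict_ι ι Y) v)
      have e2 := congr($(X.scheme.homOfLE_ι (inf_le_left : Y ⊓ closedCompl ι ≤ Y)) w)
      have e3 : ι ((ι ⁻¹ᵁ Y).ι v) = (Y ⊓ closedCompl ι).ι w :=
        e1.symm.trans ((congrArg Y.ι hv).trans e2)
      exact w.2.2 ⟨_, e3⟩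
    · intro hz
      have hz' : z.1 ∉ Set.range ι := fun ⟨v, hv⟩ => hz ⟨⟨v, by
          change ι v ∈ Y
          rw [hv]; exact z.2⟩, Y.ι.isOpenEmbedding.injective (by
          refine (congr($(morphismRestrict_ι ι Y) (⟨v, _⟩ : (ι ⁻¹ᵁ Y : Scheme.{u})))).trans ?_
          exact hv)⟩
      refine ⟨⟨z.1, z.2, hz'⟩, Y.ι.isOpenEmbedding.injective ?_⟩
      exact congr($(X.scheme.homOfLE_ι (inf_le_left : Y ⊓ closedCompl ι ≤ Y))
        (⟨z.1, z.2, hz'⟩ : (Y ⊓ closedCompl ι : X.scheme.Opens)))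

lemma codim_closedDecomp {Y : X.scheme.Opens} (hY : ContainsFj X j Y)
    (hY' : ContainsFj Z 0 (ι ⁻¹ᵁ Y))
    (hd : WeilCoh.dim Z.scheme + (j + 1) = WeilCoh.dim X.scheme) :
    (closedDecomp ι hY hd).codim = (j : ℤ) + 1 := by
  simp only [Decomp.codim, relCodim, dim_opens_of_containsFj hY,
    dim_opens_of_containsFj hY']
  omega

omit [IsConstructible V] [IsClosedImmersion ι] in
/-- The pullback square of a closed subscheme over nested opens. -/
lemma isPullback_closedLE {Y Y' : X.scheme.Opens} (h : Y' ≤ Y) :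
    IsPullback (Z.scheme.homOfLE (show ι ⁻¹ᵁ Y' ≤ ι ⁻¹ᵁ Y from fun _ hz => h hz)) (ι ∣_ Y') (ι ∣_ Y)
      (X.scheme.homOfLE h) := by
  refine IsPullback.of_right (h₁₂ := (ι ⁻¹ᵁ Y).ι) (v₁₃ := ι) (h₂₂ := Y.ι) ?_ ?_
    (isPullback_morphismRestrict ι Y).flip
  · rw [Scheme.homOfLE_ι, Scheme.homOfLE_ι]
    exact (isPullback_morphismRestrict ι Y').flip
  · rw [← cancel_mono Y.ι, Category.assoc, Category.assoc, Scheme.homOfLE_ι, morphismRestrict_ι,
      morphismRestrict_ι, Scheme.homOfLE_ι_assoc]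

end Closed

/-- A closed subset of codimension `> j` lies in a reduced closed subscheme of codimension `j + 1`. -/
lemma exists_closed_subscheme {j : ℕ} (C : Closeds X.scheme)
    (hC : ∀ y ∈ C, j < WeilCoh.codim X.scheme y) (hne : (C : Set X.scheme).Nonempty) :
    ∃ (Z : Obj V) (ι : Z.scheme ⟶ X.scheme) (_ : IsClosedImmersion ι) (_ : IsReduced Z.scheme),
      WeilCoh.dim Z.scheme + (j + 1) = WeilCoh.dim X.scheme ∧ (C : Set X.scheme) ⊆ Set.range ι := by
  obtain ⟨y, hy⟩ := hne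
  obtain ⟨x₀, hx₀⟩ := exists_codim_eq (c := j + 1) (hC y hy)
  let C' : Closeds X.scheme := C ⊔ ⟨closure {x₀}, isClosed_closure⟩
  let Z : Obj V := ⟨(Scheme.IdealSheafData.vanishingIdeal C').subscheme,
    IsConstructible.of_isClosedImmersion (Scheme.IdealSheafData.vanishingIdeal C').subschemeι
      (h := inferInstance) X.mem⟩
  let ι : Z.scheme ⟶ X.scheme := (Scheme.IdealSheafData.vanishingIdeal C').subschemeι
  haveI hι : IsClosedImmersion ι :=
    inferInstanceAs (IsClosedImmersion (Scheme.IdealSheafData.vanishingIdeal C').subschemeι)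
  have hr : Set.range ι = (C' : Set X.scheme) := by
    refine ((Scheme.IdealSheafData.vanishingIdeal C').range_subschemeι).trans ?_
    rw [Scheme.IdealSheafData.coe_support_vanishingIdeal]
  obtain ⟨z₀, hz₀⟩ : x₀ ∈ Set.range ι := by rw [hr]; exact Or.inr (subset_closure rfl)
  refine ⟨Z, ι, hι, isReduced_vanishingIdeal _, ?_, fun w hw => by rw [hr]; exact Or.inl hw⟩
  have h0 := codim_add_pdim X x₀
  rw [hx₀] at h0
  have hle : ∀ z, WeilCoh.pdim Z.scheme z ≤ WeilCoh.pdim X.scheme x₀ := fun z => by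
    have hz : ι z ∈ (C' : Set X.scheme) := hr ▸ Set.mem_range_self z
    have h1 := codim_add_pdim X (ι z)
    rw [← pdim_map ι z]
    rcases hz with hz | hz
    · have := hC _ hz; omega
    · have := codim_le_of_mem_closure hz
      rw [hx₀] at this
      omega
  rw [dim_eq_of_forall_pdim_le Z hle (z₀ := z₀) (by rw [← pdim_map ι z₀, hz₀])]
  omega

/-- Restriction from a shifted level is bijective if the groups of closed subschemes vanish. -/
theorem fjRes_bijective_of_closed (M : A.Cat) (j m : ℕ) (i n : ℤ)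
    (hZ : ∀ (Z : Obj V) (ι : Z.scheme ⟶ X.scheme) [IsClosedImmersion ι] [IsReduced Z.scheme],
      WeilCoh.dim Z.scheme + (j + 1) = WeilCoh.dim X.scheme →
      IsZero (T.fjGp Z m M (i - 2 * ((j : ℤ) + 1)) (n - ((j : ℤ) + 1))) ∧
        IsZero (T.fjGp Z m M (i + 1 - 2 * ((j : ℤ) + 1)) (n - ((j : ℤ) + 1)))) :
    Function.Bijective
      ((T.fjRes X ((Nat.le_succ j).trans (Nat.le_add_right (j + 1) m)) i n).app M).hom := by
  have hjm : j ≤ j + 1 + m := by omega
  refine ⟨(injective_iff_map_eq_zero _).2 fun c hc => ?_, fun c => ?_⟩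
  · obtain ⟨U, a, rfl⟩ := exists_cls T c
    rw [ocolimMap_cls] at hc
    obtain ⟨U', hle, h0⟩ := cls_eq_zero T hc
    let C : Closeds X.scheme := ⟨(U'.1 : Set X.scheme)ᶜ, U'.1.isOpen.isClosed_compl⟩
    have hC : ∀ y ∈ C, j < WeilCoh.codim X.scheme y := fun y hy => by
      by_contra h
      exact hy (U'.2.1 y (by omega))
    rcases (C : Set X.scheme).eq_empty_or_nonempty with he | hne
    · have htop : U.1 ≤ U'.1 := fun y _ => by
        by_contra h
        exact Set.eq_empty_iff_forall_notMem.1 he y h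
      rw [← cls_shrink T (U := U) (U' := U) le_rfl a]
      refine (congrArg (cls T X _ M i n U) ?_).trans (cls_map_zero T U)
      refine (pull_resLE_resLE T htop hle (U.2.2.trans U'.2.2.symm) (U'.2.2.trans U.2.2.symm)
        M i n a).symm.trans ?_
      exact (congrArg _ h0).trans (map_zero _)
    obtain ⟨Z, ι, _, _, hd, hCZ⟩ := exists_closed_subscheme C hC hne
    have hUj : ContainsFj X j U.1 := containsFj_mono X hjm U.1 U.2.1
    have hW : ContainsFj Z m (ι ⁻¹ᵁ U.1) := containsFj_preimage ι hd U.2.1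
    let D := closedDecomp ι hUj hd
    have hcD : D.codim = (j : ℤ) + 1 :=
      codim_closedDecomp ι hUj (containsFj_mono Z (Nat.zero_le m) _ hW) hd
    have hopn : U.1 ⊓ closedCompl ι ≤ U'.1 := fun y hy => by
      by_contra h
      exact hy.2 (hCZ h)
    have hz : (T.pull D.j M i n).hom a = 0 := by
      refine (pull_resLE_resLE T hopn hle
        ((dim_opens_of_containsFj (containsFj_inter hUj (containsFj_closedCompl ι hd))).trans
          U'.2.2.symm) (U'.2.2.trans U.2.2.symm) M i n a).symm.trans ?_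
      exact (congrArg _ h0).trans (map_zero _)
    obtain ⟨k, rfl⟩ : ∃ k, i = k + 1 := ⟨i - 1, by ring⟩
    have hcD' : relCodim D.Z.scheme (X.res U.1).scheme = (j : ℤ) + 1 := hcD
    obtain ⟨r, hr⟩ := (T.exact_push_pull D M k n (k + 1 - 2 * ((j : ℤ) + 1)) (n - ((j : ℤ) + 1))
      (by rw [hcD']; ring) (by rw [hcD']; ring) a).1 hz
    obtain ⟨W', hW', hr0⟩ := cls_eq_zero T (U := fIdx hW)
      (eq_zero_of_isZero (hZ Z ι hd).1 (cls T Z _ M _ _ (fIdx hW) r))
    obtain ⟨Y₁, hY₁, hle₁, -⟩ := exists_open_preimage_le ι hd W'.2.1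
    have hY : ContainsFj X (j + 1 + m) (U.1 ⊓ Y₁) := containsFj_inter U.2.1 hY₁
    have hWY : ContainsFj Z m (ι ⁻¹ᵁ (U.1 ⊓ Y₁)) := containsFj_preimage ι hd hY
    have hp : ι ⁻¹ᵁ (U.1 ⊓ Y₁) ≤ W'.1 := fun z hz => hle₁ hz.2
    let f₁ : (Z.res (ι ⁻¹ᵁ (U.1 ⊓ Y₁))).scheme ⟶ (X.res (U.1 ⊓ Y₁)).scheme := ι ∣_ (U.1 ⊓ Y₁)
    haveI : IsClosedImmersion f₁ :=
      IsZariskiLocalAtTarget.restrict (P := @IsClosedImmersion) inferInstance _
    have hc1 : relCodim (Z.res (ι ⁻¹ᵁ (U.1 ⊓ Y₁))).scheme (X.res (U.1 ⊓ Y₁)).scheme = (j : ℤ) + 1 := by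
      simp only [relCodim, dim_opens_of_containsFj hY, dim_opens_of_containsFj hWY]
      omega
    rw [← cls_shrink T (U := U) (U' := fIdx hY) inf_le_left a, ← hr]
    refine (congrArg (cls T X _ M (k + 1) n (fIdx hY)) ?_).trans (cls_map_zero T _)
    have hsq := congrArg (fun φ => φ.hom r) (T.push_pull D.i f₁
      (X.resLE (inf_le_left : U.1 ⊓ Y₁ ≤ U.1) ((fIdx hY).2.2.trans U.2.2.symm))
      (Z.resLE (show ι ⁻¹ᵁ (U.1 ⊓ Y₁) ≤ ι ⁻¹ᵁ U.1 from fun _ hz => hz.1)
        ((fIdx hWY).2.2.trans (fIdx hW).2.2.symm))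
      (isPullback_closedLE ι (inf_le_left : U.1 ⊓ Y₁ ≤ U.1)) M _ _ (k + 1) n
      (by rw [hcD']; ring) (by rw [hcD']; ring) (by rw [hc1]; ring) (by rw [hc1]; ring))
    refine hsq.trans ?_
    refine (congrArg (fun w => (T.push f₁ M _ _ (k + 1) n _ _).hom w) ?_).trans
      (map_zero _)
    refine (pull_resLE_resLE T (X := Z) hp hW' ((fIdx hWY).2.2.trans W'.2.2.symm)
      (W'.2.2.trans (fIdx hW).2.2.symm) M _ _ r).symm.trans ?_
    exact (congrArg _ hr0).trans (map_zero _)
  · obtain ⟨U, a, rfl⟩ := exists_cls T c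
    let C : Closeds X.scheme := ⟨(U.1 : Set X.scheme)ᶜ, U.1.isOpen.isClosed_compl⟩
    have hC : ∀ y ∈ C, j < WeilCoh.codim X.scheme y := fun y hy => by
      by_contra h
      exact hy (U.2.1 y (by omega))
    rcases (C : Set X.scheme).eq_empty_or_nonempty with he | hne
    · have htop : ContainsFj X (j + 1 + m) U.1 := fun y _ => by
        by_contra h
        exact Set.eq_empty_iff_forall_notMem.1 he y h
      exact ⟨cls T X _ M i n (fIdx htop) a, ocolimMap_cls T _ _ _⟩
    obtain ⟨Z, ι, _, _, hd, hCZ⟩ := exists_closed_subscheme C hC hne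
    have hXj : ContainsFj X j (⊤ : X.scheme.Opens) := fun _ _ => trivial
    have hW : ContainsFj Z m (ι ⁻¹ᵁ (⊤ : X.scheme.Opens)) := fun _ _ => trivial
    let D := closedDecomp ι hXj hd
    have hcD : D.codim = (j : ℤ) + 1 :=
      codim_closedDecomp ι hXj (containsFj_mono Z (Nat.zero_le m) _ hW) hd
    have hU₀ : ContainsFj X j (⊤ ⊓ closedCompl ι) :=
      containsFj_inter hXj (containsFj_closedCompl ι hd)
    have hopn : (⊤ : X.scheme.Opens) ⊓ closedCompl ι ≤ U.1 := fun y hy => by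
      by_contra h
      exact hy.2 (hCZ h)
    let b := (shrink T (U := U) (U' := fIdx hU₀) hopn).hom a
    let r := (T.res D M i n (i + 1 - 2 * ((j : ℤ) + 1)) (n - ((j : ℤ) + 1)) (by rw [hcD]) (by rw [hcD])).hom b
    obtain ⟨W', hW', hr0⟩ := cls_eq_zero T (U := fIdx hW)
      (eq_zero_of_isZero (hZ Z ι hd).2 (cls T Z _ M _ _ (fIdx hW) r))
    obtain ⟨Y₁, hY₁, hle₁, hcY⟩ := exists_open_preimage_le ι hd W'.2.1
    have hY₁j : ContainsFj X j Y₁ := containsFj_mono X hjm Y₁ hY₁
    have hWY : ContainsFj Z m (ι ⁻¹ᵁ Y₁) := containsFj_preimage ι hd hY₁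
    let D₁ := closedDecomp ι hY₁j hd
    have hcD₁ : D₁.codim = (j : ℤ) + 1 :=
      codim_closedDecomp ι hY₁j (containsFj_mono Z (Nat.zero_le m) _ hWY) hd
    have hU₁ : ContainsFj X j (Y₁ ⊓ closedCompl ι) :=
      containsFj_inter hY₁j (containsFj_closedCompl ι hd)
    let gU : D₁.U ⟶ D.U := X.resLE (inf_le_inf le_top le_rfl)
      ((fIdx hU₁).2.2.trans (fIdx hU₀).2.2.symm)
    let gZ : D₁.Z ⟶ D.Z := Z.resLE (fun _ _ => trivial) ((fIdx hWY).2.2.trans (fIdx hW).2.2.symm)
    have hres : (T.res D₁ M i n (i + 1 - 2 * ((j : ℤ) + 1)) (n - ((j : ℤ) + 1)) (by rw [hcD₁])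
        (by rw [hcD₁])).hom ((T.pull gU M i n).hom b) = 0 := by
      rw [← comp_apply', ← T.res_pull D D₁ (X.resLE le_top
        ((fIdx hY₁j).2.2.trans (fIdx hXj).2.2.symm)) gZ gU
        (isPullback_closedLE ι (le_top : Y₁ ≤ ⊤)).w
        (BMCoh.Hom.ext ((Scheme.homOfLE_homOfLE _ (show Y₁ ⊓ closedCompl ι ≤ ⊤ ⊓ closedCompl ι from
            inf_le_inf le_top le_rfl) inf_le_left).trans
          (Scheme.homOfLE_homOfLE _ (inf_le_left : Y₁ ⊓ closedCompl ι ≤ Y₁) le_top).symm))
        M i n _ _ (by rw [hcD]) (by rw [hcD]) (by rw [hcD₁]) (by rw [hcD₁]), comp_apply']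
      refine (pull_resLE_resLE T (X := Z) hle₁ hW' ((fIdx hWY).2.2.trans W'.2.2.symm)
        (W'.2.2.trans (fIdx hW).2.2.symm) M _ _ r).symm.trans ?_
      exact (congrArg _ hr0).trans (map_zero _)
    obtain ⟨a', ha'⟩ := (T.exact_pull_res D₁ M i n _ _ _ _ _).1 hres
    refine ⟨cls T X _ M i n (fIdx hY₁) a', ?_⟩
    rw [ocolimMap_cls, ← cls_shrink T (U := U) (U' := fIdx hU₀) hopn a]
    refine (cls_shrink T (U := fIdx hY₁j) (U' := fIdx hU₁) inf_le_left a').symm.trans ?_
    refine (congrArg (cls T X _ M i n (fIdx hU₁)) ha').trans ?_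
    exact cls_shrink T (U := fIdx hU₀) (U' := fIdx hU₁) (inf_le_inf le_top le_rfl) b

end BMLib
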