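import Groth.Agent.BMLib.PtMap
import Groth.Agent.BMLib.Level
import Mathlib.AlgebraicGeometry.PullbackCarrier

/-!
# Residue after push-forward along a proper morphism
-/

universe u

noncomputable section

open AlgebraicGeometry CategoryTheory CategoryTheory.Limits TopologicalSpace Topology Opposite BMCoh

namespace BMLib

variable {V : ObjectProperty Scheme.{u}} [IsConstructible V] {R : Type u} [CommRing R] {A : Coefs R}
variable (T : PreTheory V R A) {X Y : Obj V} (φ : Y.scheme ⟶ X.scheme) [IsProper φ]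

/-- The hypothesis that residues only depend on the support of the closed part. -/
def IsNilInvariant : Prop :=
  ∀ (S : Obj V) (D D'' : Decomp S) (gU : D''.U ⟶ D.U)
    (k : D''.Z.scheme ⟶ D.Z.scheme) [IsClosedImmersion k] [Surjective k],
    gU ≫ D.j = D''.j → k ≫ D.i = D''.i →
    ∀ (M : A.Cat) (i n i' n' : ℤ) (hi : i' = i + 1 - 2 * D.codim) (hn : n' = n - D.codim)
      (hi'' : i' = i + 1 - 2 * D''.codim) (hn'' : n' = n - D''.codim)
      (hk : i' = i' + 2 * relCodim D''.Z.scheme D.Z.scheme)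
      (hk' : n' = n' + relCodim D''.Z.scheme D.Z.scheme),
    T.pull gU M i n ≫ T.res D'' M i n i' n' hi'' hn'' ≫ T.push k M i' n' i' n' hk hk' =
      T.res D M i n i' n' hi hn

/-- The morphism over an open. -/
abbrev fRes (O : X.scheme.Opens) : (Y.res (φ ⁻¹ᵁ O)).scheme ⟶ (X.res O).scheme := φ ∣_ O

section PieceMap

variable {y : Y.scheme} {x : X.scheme} (hy : φ y = x) (O : X.scheme.Opens) (hxO : x ∈ O)

omit [IsProper φ] in
include hy hxO in
lemma mem_pre : y ∈ φ ⁻¹ᵁ O := show φ y ∈ O by rwa [hy]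

/-- The morphism between pieces. -/
def pieceMap : (piece Y y (φ ⁻¹ᵁ O) (mem_pre φ hy O hxO)).scheme ⟶ (piece X x O hxO).scheme :=
  IsOpenImmersion.lift (pieceIdx X x O hxO).1.ι
    ((pieceIdx Y y (φ ⁻¹ᵁ O) (mem_pre φ hy O hxO)).1.ι ≫ ptMap φ hy) (by
      rw [Scheme.Opens.range_ι]
      rintro _ ⟨v, rfl⟩
      change X.ptSubι x (ptMap φ hy ((pieceIdx Y y (φ ⁻¹ᵁ O) _).1.ι v)) ∈ O
      rw [← Scheme.Hom.comp_apply, ptMap_ι]
      exact v.2)

omit [IsProper φ] in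
lemma pieceMap_compat :
    pieceMap φ hy O hxO ≫ (pieceIdx X x O hxO).1.ι ≫ X.ptSubι x =
      (pieceIdx Y y (φ ⁻¹ᵁ O) (mem_pre φ hy O hxO)).1.ι ≫ Y.ptSubι y ≫ φ := by
  rw [← Category.assoc, pieceMap, IsOpenImmersion.lift_fac, Category.assoc, ptMap_ι]

omit [IsProper φ] in
lemma pieceMap_ι :
    pieceMap φ hy O hxO ≫ pieceι X x O hxO =
      pieceι Y y (φ ⁻¹ᵁ O) (mem_pre φ hy O hxO) ≫ fRes φ O := by
  rw [← cancel_mono O.ι, Category.assoc, pieceι_ι, pieceMap_compat, Category.assoc,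
    morphismRestrict_ι, ← Category.assoc, ← Category.assoc, pieceι_ι]

lemma isProper_pieceMap : IsProper (pieceMap φ hy O hxO) := by
  haveI : IsProper (fRes φ O) := inferInstance
  haveI : IsProper (pieceMap φ hy O hxO ≫ pieceι X x O hxO) := by
    rw [pieceMap_ι]; infer_instance
  exact IsProper.of_comp _ (pieceι X x O hxO)

omit [IsProper φ] in
lemma relCodim_pieceMap (h : WeilCoh.pdim Y.scheme y = WeilCoh.pdim X.scheme x) :
    relCodim (piece Y y (φ ⁻¹ᵁ O) (mem_pre φ hy O hxO)).scheme (piece X x O hxO).scheme = 0 := by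
  rw [relCodim, dim_piece, dim_piece, h, sub_self]

end PieceMap

variable {T} {φ}

lemma pdim_eq_of_ptPush {y : Y.scheme} {x : X.scheme} (L : T.PtPush φ y x) :
    WeilCoh.pdim Y.scheme y = WeilCoh.pdim X.scheme x := by
  have h : (WeilCoh.dim (X.ptSub x).scheme : ℤ) - WeilCoh.dim (Y.ptSub y).scheme = 0 := L.codim_eq
  rw [dim_ptSub, dim_ptSub] at h
  omega

instance {y : Y.scheme} {x : X.scheme} (hy : φ y = x) (O : X.scheme.Opens) (hxO : x ∈ O) :
    IsProper (pieceMap φ hy O hxO) := isProper_pieceMap φ hy O hxO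

lemma cpt_pieceMap {y : Y.scheme} {x : X.scheme} (L : T.PtPush φ y x) (M : A.Cat) (i n : ℤ)
    (O : X.scheme.Opens) (hxO : x ∈ O)
    (b : T.gp (piece Y y (φ ⁻¹ᵁ O) (mem_pre φ L.maps_pt O hxO)) M i n) :
    (L.cpt M i n).hom (pcls T Y M i n y (φ ⁻¹ᵁ O) (mem_pre φ L.maps_pt O hxO) b) =
      pcls T X M i n x O hxO ((T.push (pieceMap φ L.maps_pt O hxO) M i n i n
        (by rw [relCodim_pieceMap φ L.maps_pt O hxO (pdim_eq_of_ptPush L)]; ring)
        (by rw [relCodim_pieceMap φ L.maps_pt O hxO (pdim_eq_of_ptPush L)]; ring)).hom b) :=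
  congrArg (fun ψ => ψ.hom b) (L.cpt_spec M i n (pieceIdx Y y (φ ⁻¹ᵁ O) _) (pieceIdx X x O hxO)
    (pieceMap φ L.maps_pt O hxO) (pieceMap_compat φ L.maps_pt O hxO) _ _)

section Strata

variable {q : ℕ} (hq : (WeilCoh.dim X.scheme : ℤ) = WeilCoh.dim Y.scheme + q)
variable (h0 : ∀ y : Y.scheme, WeilCoh.codim Y.scheme y = 0 → WeilCoh.codim X.scheme (φ y) ≤ q)

include hq in
lemma codim_add_le (v : Y.scheme) :
    q + WeilCoh.codim Y.scheme v ≤ WeilCoh.codim X.scheme (φ v) := by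
  have h1 := pdim_le_of_isClosedMap φ φ.isClosedMap _ v rfl
  have h2 := codim_add_pdim X (φ v)
  have h3 := codim_add_pdim Y v
  omega

omit [IsProper φ] in
include h0 in
lemma containsFj_pre {O : X.scheme.Opens} (hO : ContainsFj X q O) : ContainsFj Y 0 (φ ⁻¹ᵁ O) :=
  fun y hy => hO (φ y) (h0 y (by omega))

omit [IsProper φ] in
include hq h0 in
lemma relCodim_fRes {O : X.scheme.Opens} (hO : ContainsFj X q O) :
    relCodim (Y.res (φ ⁻¹ᵁ O)).scheme (X.res O).scheme = q := by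
  rw [relCodim, Obj.res_scheme, Obj.res_scheme, dim_opens_of_containsFj hO,
    dim_opens_of_containsFj (containsFj_pre h0 hO), hq]
  ring

omit [IsProper φ] in
include h0 in
lemma containsFj_pre_one {O : X.scheme.Opens} (hO : ContainsFj X (q + 1) O)
    (t : Y.cdPt 1 → X.cdPt (q + 1)) (ht : ∀ y, φ y.1 = (t y).1) : ContainsFj Y 1 (φ ⁻¹ᵁ O) :=
  fun y hy => by
    rcases Nat.le_one_iff_eq_zero_or_eq_one.1 hy with h | h
    · exact hO (φ y) ((h0 y h).trans (Nat.le_succ q))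
    · change φ y ∈ O
      rw [show φ y = (t ⟨y, h⟩).1 from ht ⟨y, h⟩]
      exact hO _ (t ⟨y, h⟩).2.le

variable (S : Strat X q) (S' : Strat Y 0)

include hq in
lemma relCodim_closedParts : relCodim S'.D.Z.scheme S.D.Z.scheme = 0 := by
  have h1 := S.dim_Z
  have h2 := S'.dim_Z
  rw [relCodim, h1, h2, hq]
  push_cast
  ring

end Strata

section Key

variable {q : ℕ} (hq : (WeilCoh.dim X.scheme : ℤ) = WeilCoh.dim Y.scheme + q)
variable (h0 : ∀ y : Y.scheme, WeilCoh.codim Y.scheme y = 0 → WeilCoh.codim X.scheme (φ y) ≤ q)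
variable (hred : IsNilInvariant T) (S : Strat X q) (s' : Finset (Y.cdPt 1))
variable (t : Y.cdPt 1 → X.cdPt (q + 1)) (ht : ∀ y, φ y.1 = (t y).1)
variable (hts : ∀ y ∈ s', t y ∈ S.s) (hgood : Good Y (j := 0) s' (φ ⁻¹ᵁ S.Y)) (hne : s'.Nonempty)
variable (hset : ∀ z ∈ φ ⁻¹ᵁ S.Y, φ z ∈ closures S.s ↔ z ∈ closures (j := 0) s')

/-- The stratum over `S`. -/
abbrev overStrat : Strat Y 0 where
  s := s'
  Y := φ ⁻¹ᵁ S.Y
  hY := containsFj_pre h0 S.hY
  hmem y hy := mem_pre φ (ht y) S.Y (S.hmem _ (hts y hy))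
  good := hgood
  ne := hne

include hset in
omit [IsProper φ] in
lemma mem_range_i_iff (z : (φ ⁻¹ᵁ S.Y : Scheme.{u})) :
    z ∈ Set.range (overStrat h0 S s' t ht hts hgood hne).D.i ↔ fRes φ S.Y z ∈ Set.range S.D.i := by
  rw [Strat.range_i, Strat.range_i]
  have e := congr($(morphismRestrict_ι φ S.Y) z)
  constructor
  · intro hz
    change S.Y.ι (fRes φ S.Y z) ∈ (closures S.s : Set X.scheme)
    exact Set.mem_of_eq_of_mem e ((hset z.1 z.2).2 hz)
  · intro hz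
    change S.Y.ι (fRes φ S.Y z) ∈ (closures S.s : Set X.scheme) at hz
    exact (hset z.1 z.2).1 (Set.mem_of_eq_of_mem e.symm hz)

/-- The morphism between the closed parts. -/
def zMap : (overStrat h0 S s' t ht hts hgood hne).D.Z.scheme ⟶ S.D.Z.scheme :=
  IsClosedImmersion.lift S.D.i ((overStrat h0 S s' t ht hts hgood hne).D.i ≫ fRes φ S.Y) (by
    haveI := (overStrat h0 S s' t ht hts hgood hne).isReduced_Z
    rw [Strat.ker_i]
    refine vanishingIdeal_le_ker _ _ ?_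
    rintro z ⟨w, rfl⟩
    have h := (mem_range_i_iff h0 S s' t ht hts hgood hne hset _).1
      ⟨w, rfl⟩
    rw [Strat.range_i] at h
    exact h)

omit [IsProper φ] in
lemma zMap_i : zMap h0 S s' t ht hts hgood hne hset ≫ S.D.i =
    (overStrat h0 S s' t ht hts hgood hne).D.i ≫ fRes φ S.Y := IsClosedImmersion.lift_fac _ _ _

lemma isProper_zMap : IsProper (zMap h0 S s' t ht hts hgood hne hset) := by
  haveI : IsProper (fRes φ S.Y) := inferInstance
  haveI : IsProper (zMap h0 S s' t ht hts hgood hne hset ≫ S.D.i) := by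
    rw [zMap_i]; infer_instance
  exact IsProper.of_comp _ S.D.i

instance : IsProper (zMap h0 S s' t ht hts hgood hne hset) :=
  isProper_zMap h0 S s' t ht hts hgood hne hset

include hset in
omit [IsProper φ] in
lemma opn_le_pre : (overStrat h0 S s' t ht hts hgood hne).opn ≤ φ ⁻¹ᵁ S.opn :=
  fun z hz => ⟨hz.1, fun h => hz.2 ((hset z hz.1).1 h)⟩

omit [IsProper φ] in
include h0 in
lemma dim_pre_opn : WeilCoh.dim (φ ⁻¹ᵁ S.opn : Scheme.{u}) = WeilCoh.dim Y.scheme :=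
  dim_opens_of_containsFj (containsFj_pre h0 S.containsFj_opn)

include hred hq in
/-- Residue after push-forward is push-forward after residue. -/
theorem res_push_over (M : A.Cat) (i n i₁ n₁ i₂ n₂ : ℤ)
    (h1 : i₁ = i + 2 * (q : ℤ)) (h1' : n₁ = n + (q : ℤ))
    (h4 : i₂ = i + 1 - 2) (h4' : n₂ = n - 1)
    (b : T.gp (Y.res (φ ⁻¹ᵁ S.opn)) M i n) :
    (T.res S.D M i₁ n₁ i₂ n₂ (by rw [S.codim_D]; omega) (by rw [S.codim_D]; omega)).hom
        ((T.push (fRes φ S.opn) M i n i₁ n₁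
          (by rw [relCodim_fRes hq h0 S.containsFj_opn]; exact h1)
          (by rw [relCodim_fRes hq h0 S.containsFj_opn]; exact h1')).hom b) =
      (T.push (zMap h0 S s' t ht hts hgood hne hset) M i₂ n₂ i₂ n₂
          (by rw [relCodim_closedParts hq]; ring) (by rw [relCodim_closedParts hq]; ring)).hom
        ((T.res (overStrat h0 S s' t ht hts hgood hne).D M i n i₂ n₂
          (by rw [Strat.codim_D]; omega) (by rw [Strat.codim_D]; omega)).hom
          ((T.pull (Y.resLE (opn_le_pre h0 S s' t ht hts hgood hne hset)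
            ((overStrat h0 S s' t ht hts hgood hne).opnIdx.2.2.trans (dim_pre_opn h0 S).symm)) M i n).hom b)) := by
  let S' := overStrat h0 S s' t ht hts hgood hne
  let f := fRes φ S.Y
  haveI : IsClosedImmersion (pullback.fst f S.D.i) := inferInstance
  let Zp : Obj V := ⟨pullback f S.D.i,
    IsConstructible.of_isClosedImmersion (pullback.fst f S.D.i) (h := inferInstance) (Y.res (φ ⁻¹ᵁ S.Y)).mem⟩
  have hle : φ ⁻¹ᵁ S.opn ≤ φ ⁻¹ᵁ S.Y := fun _ hz => hz.1
  let ip : Zp.scheme ⟶ (Y.res (φ ⁻¹ᵁ S.Y)).scheme := pullback.fst f S.D.i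
  haveI : IsClosedImmersion ip := inferInstanceAs (IsClosedImmersion (pullback.fst f S.D.i))
  have hrange : Set.range ip = Set.range S'.D.i := by
    refine (Scheme.Pullback.range_fst f S.D.i).trans (Set.ext fun z => ?_)
    exact (mem_range_i_iff h0 S s' t ht hts hgood hne hset z).symm
  let Dp : Decomp (Y.res (φ ⁻¹ᵁ S.Y)) :=
    { Z := Zp
      U := Y.res (φ ⁻¹ᵁ S.opn)
      i := ip
      closedImm := inferInstance
      j := Y.resLE hle ((dim_pre_opn h0 S).trans S'.dimY.symm)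
      range_eq := by
        rw [hrange, S'.range_i]
        ext z
        constructor
        · rintro ⟨w, rfl⟩ hz
          have e := congr($(Y.scheme.homOfLE_ι hle) w)
          have hz' : (φ ⁻¹ᵁ S.opn).ι w ∈ closures (j := 0) s' := by
            rw [← e]; exact hz
          exact w.2.2 ((hset _ w.2.1).2 hz')
        · intro hz
          refine ⟨⟨z.1, z.2, fun h => hz ((hset z.1 z.2).1 h)⟩,
            (φ ⁻¹ᵁ S.Y).ι.isOpenEmbedding.injective ?_⟩
          exact congr($(Y.scheme.homOfLE_ι hle) (⟨z.1, z.2, fun h => hz ((hset z.1 z.2).1 h)⟩ :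
            (φ ⁻¹ᵁ S.opn : Scheme.{u}))) }
  let κ := zMap h0 S s' t ht hts hgood hne hset
  let k : S'.D.Z.scheme ⟶ Dp.Z.scheme :=
    pullback.lift S'.D.i κ (zMap_i h0 S s' t ht hts hgood hne hset).symm
  have hki : k ≫ Dp.i = S'.D.i := pullback.lift_fst _ _ _
  let fZ : Dp.Z.scheme ⟶ S.D.Z.scheme := pullback.snd f S.D.i
  haveI : IsProper fZ := inferInstanceAs (IsProper (pullback.snd f S.D.i))
  have hkf : k ≫ fZ = κ := pullback.lift_snd _ _ _
  haveI : IsClosedImmersion (k ≫ Dp.i) := by rw [hki]; infer_instance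
  haveI : IsClosedImmersion k := IsClosedImmersion.of_comp _ Dp.i
  haveI : Surjective k := ⟨fun z => by
    obtain ⟨w, hw⟩ : Dp.i z ∈ Set.range S'.D.i := hrange ▸ Set.mem_range_self z
    refine ⟨w, Dp.i.isClosedEmbedding.injective ?_⟩
    rw [← hw, ← hki]
    rfl⟩
  have hdim : WeilCoh.dim S'.D.Z.scheme = WeilCoh.dim Dp.Z.scheme :=
    natDim_congr (k.isClosedEmbedding.isEmbedding.toHomeomorphOfSurjective k.surjective)
  have hcp : Dp.codim = 1 := by
    have h := S'.codim_D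
    simp only [Decomp.codim, relCodim] at h ⊢
    rw [← hdim]
    push_cast at h
    omega
  have hck : relCodim S'.D.Z.scheme Dp.Z.scheme = 0 := by simp only [relCodim, hdim]; ring
  have hcz : relCodim Dp.Z.scheme S.D.Z.scheme = 0 := by
    have h := relCodim_closedParts hq S S'
    simp only [relCodim] at h ⊢
    rw [← hdim]
    exact h
  have hb := congrArg (fun ψ => ψ.hom b) (hred _ Dp S'.D
    (Y.resLE (opn_le_pre h0 S s' t ht hts hgood hne hset)
      (S'.opnIdx.2.2.trans (dim_pre_opn h0 S).symm)) k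
    (BMCoh.Hom.ext (Scheme.homOfLE_homOfLE Y.scheme (opn_le_pre h0 S s' t ht hts hgood hne hset) hle)) hki M i n i₂ n₂ (by rw [hcp]; omega)
    (by rw [hcp]; omega) (by rw [S'.codim_D]; omega) (by rw [S'.codim_D]; omega)
    (by rw [hck]; ring) (by rw [hck]; ring))
  have hf := congrArg (fun ψ => ψ.hom b) (T.res_push S.D Dp f fZ (fRes φ S.opn)
    (IsPullback.of_hasPullback f S.D.i)
    (isPullback_closedLE φ S.opn_le)
    M i n i₂ n₂ i₁ n₁ i₂ n₂ (by rw [hcp]; omega) (by rw [hcp]; omega)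
    (by rw [relCodim_fRes hq h0 S.containsFj_opn]; exact h1)
    (by rw [relCodim_fRes hq h0 S.containsFj_opn]; exact h1')
    (by rw [hcz]; ring) (by rw [hcz]; ring) (by rw [S.codim_D]; omega) (by rw [S.codim_D]; omega))
  simp only [comp_apply'] at hb hf
  rw [← hb] at hf
  refine hf.symm.trans ?_
  have h00 : relCodim S'.D.Z.scheme S.D.Z.scheme = 0 := relCodim_closedParts hq S S'
  rw [← comp_apply' (T.push k M i₂ n₂ i₂ n₂ _ _), T.push_comp k fZ M i₂ n₂ i₂ n₂ i₂ n₂ _ _ _ _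
    (by rw [h00]; ring) (by rw [h00]; ring)]
  rw [push_congr T _ _ hkf]

lemma push_zMap_pushP (y : Y.cdPt 1) (hy : y ∈ s') (hd : WeilCoh.pdim Y.scheme y.1 = WeilCoh.pdim X.scheme (t y).1)
    (M : A.Cat) (a b : ℤ) (hk : a = a + 2 * relCodim (overStrat h0 S s' t ht hts hgood hne).D.Z.scheme S.D.Z.scheme)
    (hk' : b = b + relCodim (overStrat h0 S s' t ht hts hgood hne).D.Z.scheme S.D.Z.scheme)
    (v : T.gp ((overStrat h0 S s' t ht hts hgood hne).W y hy) M a b) :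
    (T.push (zMap h0 S s' t ht hts hgood hne hset) M a b a b hk hk').hom
        ((pushP T ((overStrat h0 S s' t ht hts hgood hne).g y hy) M a b).hom v) =
      (pushP T (S.g (t y) (hts y hy)) M a b).hom
        ((T.push (pieceMap φ (ht y) S.Y (S.hmem _ (hts y hy))) M a b a b
          (by rw [relCodim_pieceMap φ (ht y) S.Y _ hd]; ring)
          (by rw [relCodim_pieceMap φ (ht y) S.Y _ hd]; ring)).hom v) := by
  set S' := overStrat h0 S s' t ht hts hgood hne
  have e : (S'.g y hy).hom ≫ zMap h0 S s' t ht hts hgood hne hset =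
      pieceMap φ (ht y) S.Y (S.hmem _ (hts y hy)) ≫ (S.g (t y) (hts y hy)).hom := by
    refine (cancel_mono S.D.i).1 ?_
    rw [Category.assoc, Category.assoc, zMap_i, ← Category.assoc, Strat.g_i, Strat.g_i, pieceMap_ι]
  have hg := relCodim_hom (S'.g y hy)
  have hg' := relCodim_hom (S.g (t y) (hts y hy))
  have hp := relCodim_pieceMap φ (ht y) S.Y (S.hmem _ (hts y hy)) hd
  have h00 : relCodim (S'.W y hy).scheme S.D.Z.scheme = 0 := by
    change (WeilCoh.dim S.D.Z.scheme : ℤ) -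
      WeilCoh.dim (piece Y y.1 (φ ⁻¹ᵁ S.Y) (mem_pre φ (ht y) S.Y (S.hmem _ (hts y hy)))).scheme = 0
    have hg'' : (WeilCoh.dim S.D.Z.scheme : ℤ) -
      WeilCoh.dim (piece X (t y).1 S.Y (S.hmem _ (hts y hy))).scheme = 0 := hg'
    rw [relCodim] at hp
    omega
  rw [← comp_apply' (pushP T (S'.g y hy) M a b), ← comp_apply'
    (T.push (pieceMap φ (ht y) S.Y (S.hmem _ (hts y hy))) M a b a b _ _)]
  unfold pushP
  rw [T.push_comp (S'.g y hy).hom (zMap h0 S s' t ht hts hgood hne hset) M a b a b a b _ _ _ _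
    (by rw [h00]; ring) (by rw [h00]; ring),
    T.push_comp (pieceMap φ (ht y) S.Y (S.hmem _ (hts y hy))) (S.g (t y) (hts y hy)).hom M a b a b a b
      _ _ _ _ (by rw [h00]; ring) (by rw [h00]; ring)]
  exact congrArg (fun ψ => ψ.hom v) (push_congr T _ _ e M a b a b _ _)

end Key

section Main

variable {q : ℕ}

open DirectSum in
lemma eq_sum_lof [DecidableEq (X.cdPt q)] (M : A.Cat) (a b : ℤ) (ζ : T.ptSum X q M a b)
    (s : Finset (X.cdPt q)) (h : ∀ x ∉ s, ζ x = 0) :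
    ζ = ∑ x ∈ s, DirectSum.lof R (X.cdPt q) (fun y : X.cdPt q => T.ptGp X y.1 M a b) x (ζ x) := by
  classical
  refine DFinsupp.ext fun y => ?_
  rw [DFinsupp.finsetSum_apply]
  by_cases hy : y ∈ s
  · rw [Finset.sum_eq_single_of_mem y hy]
    · exact (DFinsupp.single_eq_same (β := fun z : X.cdPt q => T.ptGp X z.1 M a b)).symm
    · exact fun b' _ hb =>
        DFinsupp.single_eq_of_ne (β := fun z : X.cdPt q => T.ptGp X z.1 M a b) (Ne.symm hb)
  · rw [h y hy]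
    exact (Finset.sum_eq_zero fun b' hb => DFinsupp.single_eq_of_ne
      (β := fun z : X.cdPt q => T.ptGp X z.1 M a b) fun (e : y = b') => hy (e ▸ hb)).symm

/-- The residue of a push-forward is the push-forward of the residue. -/
theorem resTot_push_eq (hred : IsNilInvariant T)
    (hq : (WeilCoh.dim X.scheme : ℤ) = WeilCoh.dim Y.scheme + q)
    (h0 : ∀ y : Y.scheme, WeilCoh.codim Y.scheme y = 0 → WeilCoh.codim X.scheme (φ y) ≤ q)
    (t : Y.cdPt 1 → X.cdPt (q + 1)) (F : ∀ y : Y.cdPt 1, T.PtPush φ y.1 (t y).1)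
    (Q : T.ResData X q) (Q' : T.ResData Y 0)
    {O : X.scheme.Opens} (hO : ContainsFj X q O) (hOφ : ∀ z, z ∉ O → z ∈ Set.range φ)
    (M : A.Cat) (i n i₁ n₁ i₂ n₂ : ℤ)
    (h1 : i₁ = i + 2 * (q : ℤ)) (h1' : n₁ = n + (q : ℤ))
    (h2 : i₂ = i₁ + 1 - 2 * ((q : ℤ) + 1)) (h2' : n₂ = n₁ - ((q : ℤ) + 1))
    (h4 : i₂ = i + 1 - 2 * (((0 : ℕ) : ℤ) + 1)) (h4' : n₂ = n - (((0 : ℕ) : ℤ) + 1))
    (β : T.gp (Y.res (φ ⁻¹ᵁ O)) M i n) :
    (Q.tot M i₁ n₁ i₂ n₂ h2 h2').hom (cls T X _ M i₁ n₁ (fIdx hO)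
        ((T.push (fRes φ O) M i n i₁ n₁ (by rw [relCodim_fRes hq h0 hO]; exact h1)
          (by rw [relCodim_fRes hq h0 hO]; exact h1')).hom β)) =
      (PreTheory.PtPush.famTot t F M i₂ n₂).hom ((Q'.tot M i n i₂ n₂ h4 h4').hom
        (cls T Y _ M i n (fIdx (containsFj_pre h0 hO)) β)) := by
  classical
  have ht : ∀ y, φ y.1 = (t y).1 := fun y => (F y).maps_pt
  obtain ⟨s, Y₀, hY₀, hgoodX, hcovX, hsO⟩ := exists_cover' X O hO
  obtain ⟨s', Y'₀, hY'₀, hgoodY, hcovY, hs'O⟩ := exists_cover' Y (φ ⁻¹ᵁ O) (containsFj_pre h0 hO)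
  let C : Closeds X.scheme := ⟨φ '' (Y'₀ : Set Y.scheme)ᶜ,
    φ.isClosedMap _ Y'₀.isOpen.isClosed_compl⟩
  let Y₁ := Y₀ ⊓ C.compl
  have hY₁ : ContainsFj X (q + 1) Y₁ := containsFj_inter hY₀ (containsFj_compl C (by
    rintro z ⟨v, hv, rfl⟩
    have h2 : 1 < WeilCoh.codim Y.scheme v := by
      by_contra h
      exact hv (hY'₀ v (by omega))
    have := codim_add_le (φ := φ) hq v
    omega))
  have hpre : φ ⁻¹ᵁ Y₁ ≤ Y'₀ := fun v hv => by
    by_contra h
    exact hv.2 ⟨v, h, rfl⟩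
  have hV₁ := containsFj_pre_one h0 hY₁ t ht
  have hcovY' : ∀ z ∈ φ ⁻¹ᵁ Y₁, z ∈ φ ⁻¹ᵁ O ∨ ∃ y ∈ s', z ∈ closure ({y.1} : Set Y.scheme) :=
    fun z hz => hcovY z (hpre hz)
  have hts : ∀ y ∈ s', t y ∈ s := fun y hy => by
    rcases hcovX (t y).1 (hY₁ _ (t y).2.le).1 with h | ⟨x, hx, h⟩
    · exact absurd (show φ y.1 ∈ O by rw [ht y]; exact h) (hs'O y hy)
    · rwa [← Subtype.ext (eq_of_mem_closure h (by rw [x.2, (t y).2]))]
  let Qc := fun x => (Q.cpt x M i₁ n₁ i₂ n₂ h2 h2').hom (cls T X _ M i₁ n₁ (fIdx hO)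
        ((T.push (fRes φ O) M i n i₁ n₁ (by rw [relCodim_fRes hq h0 hO]; exact h1)
          (by rw [relCodim_fRes hq h0 hO]; exact h1')).hom β))
  have hL : ∀ x ∉ s, Qc x = 0 := fun x hx =>
    cpt_eq_zero_of_cover T Q M i₁ n₁ i₂ n₂ h2 h2' hY₀ hcovX _ x hx
  have hR : ∀ y ∉ s', (Q'.cpt y M i n i₂ n₂ h4 h4').hom
      (cls T Y _ M i n (fIdx (containsFj_pre h0 hO)) β) = 0 := fun y hy =>
    cpt_eq_zero_of_cover T Q' M i n i₂ n₂ h4 h4' hY'₀ hcovY _ y hy
  rw [eq_sum_lof (T := T) M i₂ n₂ _ s fun x hx => (Q.tot_apply M i₁ n₁ i₂ n₂ h2 h2' _ x).trans (hL x hx),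
    eq_sum_lof (T := T) (X := Y) (q := 1) M i₂ n₂ ((Q'.tot M i n i₂ n₂ h4 h4').hom
        (cls T Y _ M i n (fIdx (containsFj_pre h0 hO)) β)) s'
      fun y hy => (Q'.tot_apply M i n i₂ n₂ h4 h4' _ y).trans (hR y hy), map_sum]
  rcases s.eq_empty_or_nonempty with he | hne
  · have he' : s' = ∅ := Finset.eq_empty_of_forall_notMem fun y hy =>
      Finset.notMem_empty _ (he ▸ hts y hy)
    rw [he, he']
    rfl
  -- every point of `s` has a point of `s'` over it
  have hne' : s'.Nonempty := by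
    obtain ⟨x, hx⟩ := hne
    obtain ⟨v, hv⟩ := hOφ x.1 (hsO x hx)
    have h1 := codim_add_le (φ := φ) hq v
    rw [hv, x.2] at h1
    have hv1 : v ∈ Y'₀ := hY'₀ v (by omega)
    rcases hcovY v hv1 with h | ⟨y, hy, -⟩
    · exact absurd (show φ v ∈ O from h) (by rw [hv]; exact hsO x hx)
    · exact ⟨y, hy⟩
  let S : Strat X q := ⟨s, Y₁, containsFj_mono X (Nat.le_succ q) Y₁ hY₁, fun x _ => hY₁ x.1 x.2.le,
    hgoodX.mono inf_le_left, hne⟩
  have hopn : S.opn ≤ O := opn_le_of_cover S fun z hz => hcovX z hz.1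
  have hset : ∀ z ∈ φ ⁻¹ᵁ S.Y, φ z ∈ closures S.s ↔ z ∈ closures (j := 0) s' := fun z hz => by
    constructor
    · intro h
      obtain ⟨x, hx, hzx⟩ := mem_closures.1 h
      rcases hcovY' z hz with h' | h'
      · exfalso
        exact hsO x hx ((specializes_iff_mem_closure.2 hzx).mem_open O.isOpen h')
      · exact mem_closures.2 h'
    · intro h
      obtain ⟨y, hy, hzy⟩ := mem_closures.1 h
      have hsp := (specializes_iff_mem_closure.2 hzy).map φ.continuous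
      rw [ht y] at hsp
      exact mem_closures.2 ⟨t y, hts y hy, specializes_iff_mem_closure.1 hsp⟩
  have hgood' : Good Y (j := 0) s' (φ ⁻¹ᵁ S.Y) := hgoodY.mono hpre
  let S' := overStrat h0 S s' t ht hts hgood' hne'
  let b₀ : T.gp (Y.res (φ ⁻¹ᵁ S.opn)) M i n :=
    (T.pull (Y.resLE (show φ ⁻¹ᵁ S.opn ≤ φ ⁻¹ᵁ O from fun _ h => hopn h)
      ((dim_pre_opn h0 S).trans (fIdx (containsFj_pre h0 hO)).2.2.symm)) M i n).hom β
  have hcU := relCodim_fRes hq h0 S.containsFj_opn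
  have hcO := relCodim_fRes hq h0 hO
  have hX : cls T X _ M i₁ n₁ S.opnIdx ((T.push (fRes φ S.opn) M i n i₁ n₁
      (by rw [hcU]; exact h1) (by rw [hcU]; exact h1')).hom b₀) =
      cls T X _ M i₁ n₁ (fIdx hO) ((T.push (fRes φ O) M i n i₁ n₁
        (by rw [hcO]; exact h1) (by rw [hcO]; exact h1')).hom β) := by
    refine Eq.trans ?_ (cls_shrink T (U := fIdx hO) (U' := S.opnIdx) hopn _)
    refine congrArg (cls T X _ M i₁ n₁ S.opnIdx) ?_
    exact (congrArg (fun ψ => ψ.hom β) (T.push_pull (fRes φ O) (fRes φ S.opn)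
      (X.resLE hopn (S.opnIdx.2.2.trans (fIdx hO).2.2.symm))
      (Y.resLE (show φ ⁻¹ᵁ S.opn ≤ φ ⁻¹ᵁ O from fun _ h => hopn h)
        ((dim_pre_opn h0 S).trans (fIdx (containsFj_pre h0 hO)).2.2.symm))
      (isPullback_closedLE φ hopn) M i n i₁ n₁ (by rw [hcO]; exact h1) (by rw [hcO]; exact h1')
      (by rw [hcU]; exact h1) (by rw [hcU]; exact h1'))).symm
  have hY : cls T Y _ M i n S'.opnIdx ((T.pull (Y.resLE (opn_le_pre h0 S s' t ht hts hgood' hne' hset)
      (S'.opnIdx.2.2.trans (dim_pre_opn h0 S).symm)) M i n).hom b₀) =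
      cls T Y _ M i n (fIdx (containsFj_pre h0 hO)) β :=
    (cls_shrink T (U := fIdx (containsFj_pre h0 S.containsFj_opn)) (U' := S'.opnIdx)
      (opn_le_pre h0 S s' t ht hts hgood' hne' hset) b₀).trans
      (cls_shrink T (U := fIdx (containsFj_pre h0 hO)) (U' := fIdx (containsFj_pre h0 S.containsFj_opn))
        (fun _ h => hopn h) β)
  let ρ := (T.res S'.D M i n i₂ n₂ (by rw [S'.codim_D]; exact h4) (by rw [S'.codim_D]; exact h4')).hom
    ((T.pull (Y.resLE (opn_le_pre h0 S s' t ht hts hgood' hne' hset)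
      (S'.opnIdx.2.2.trans (dim_pre_opn h0 S).symm)) M i n).hom b₀)
  -- the push-forwards of the components of `ρ`
  have hpd : ∀ y : Y.cdPt 1, relCodim (piece Y y.1 (φ ⁻¹ᵁ S.Y) (mem_pre φ (ht y) S.Y (hY₁ _ (t y).2.le))).scheme
      (piece X (t y).1 S.Y (hY₁ _ (t y).2.le)).scheme = 0 := fun y =>
    relCodim_pieceMap φ (ht y) S.Y (hY₁ _ (t y).2.le) (pdim_eq_of_ptPush (F y))
  let v : ∀ k : s', T.gp (S.W (t k.1) (hts k.1 k.2)) M i₂ n₂ := fun k =>
    (T.push (pieceMap φ (ht k.1) S.Y (S.hmem _ (hts k.1 k.2))) M i₂ n₂ i₂ n₂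
      (by rw [hpd]; ring) (by rw [hpd]; ring)).hom ((T.pull (S'.g k.1 k.2) M i₂ n₂).hom ρ)
  have hkey : (T.res S.D M i₁ n₁ i₂ n₂ (by rw [S.codim_D]; exact h2) (by rw [S.codim_D]; exact h2')).hom
      ((T.push (fRes φ S.opn) M i n i₁ n₁ (by rw [hcU]; exact h1) (by rw [hcU]; exact h1')).hom b₀) =
      ∑ k ∈ s'.attach, (pushP T (S.g (t k.1) (hts k.1 k.2)) M i₂ n₂).hom (v k) := by
    rw [res_push_over hq h0 hred S s' t ht hts hgood' hne' hset M i n i₁ n₁ i₂ n₂ h1 h1'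
      (by omega) (by omega) b₀]
    conv_lhs => rw [← S'.glue_pull T ((T.res S'.D M i n i₂ n₂ (by rw [S'.codim_D]; exact h4)
      (by rw [S'.codim_D]; exact h4')).hom ((T.pull (Y.resLE (opn_le_pre h0 S s' t ht hts hgood' hne' hset)
        (S'.opnIdx.2.2.trans (dim_pre_opn h0 S).symm)) M i n).hom b₀))]
    rw [Strat.glue, map_sum]
    exact Finset.sum_congr rfl fun k _ =>
      push_zMap_pushP h0 S s' t ht hts hgood' hne' hset k.1 k.2 (pdim_eq_of_ptPush (F k.1)) M i₂ n₂ _ _ _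
  -- compare the components
  let E : ∀ x, T.gp S.D.Z M i₂ n₂ → T.ptSum X (q + 1) M i₂ n₂ := fun x η =>
    if hx : x ∈ S.s then DirectSum.lof R (X.cdPt (q + 1)) (fun z : X.cdPt (q + 1) => T.ptGp X z.1 M i₂ n₂) x
      (pcls T X M i₂ n₂ x.1 S.Y (S.hmem x hx) ((T.pull (S.g x hx) M i₂ n₂).hom η)) else 0
  have hEsum : ∀ (x) (hx : x ∈ S.s) (κ : Finset s') (w : s' → T.gp S.D.Z M i₂ n₂),
      E x (∑ k ∈ κ, w k) = ∑ k ∈ κ, E x (w k) := fun x hx κ w => by
    simp only [E, dif_pos hx, map_sum, pcls, cls]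
  calc _ = ∑ x ∈ s, E x ((T.res S.D M i₁ n₁ i₂ n₂ (by rw [S.codim_D]; exact h2)
          (by rw [S.codim_D]; exact h2')).hom ((T.push (fRes φ S.opn) M i n i₁ n₁
          (by rw [hcU]; exact h1) (by rw [hcU]; exact h1')).hom b₀)) := by
        refine Finset.sum_congr rfl fun x hx => ?_
        simp only [E, dif_pos (show x ∈ S.s from hx)]
        congr 1
        rw [← hX]
        exact cpt_cls T Q M i₁ n₁ i₂ n₂ h2 h2' S x hx _
    _ = ∑ x ∈ s, ∑ k ∈ s'.attach, E x ((pushP T (S.g (t k.1) (hts k.1 k.2)) M i₂ n₂).hom (v k)) :=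
        Finset.sum_congr rfl fun x hx => by rw [hkey, hEsum x hx]
    _ = ∑ k ∈ s'.attach, ∑ x ∈ s, E x ((pushP T (S.g (t k.1) (hts k.1 k.2)) M i₂ n₂).hom (v k)) :=
        Finset.sum_comm
    _ = _ := by
        conv_rhs => rw [← Finset.sum_attach s']
        refine Finset.sum_congr rfl fun k _ => ?_
        have hne0 : ∀ x ∈ s, x ≠ t k.1 →
            E x ((pushP T (S.g (t k.1) (hts k.1 k.2)) M i₂ n₂).hom (v k)) = 0 := fun x hx hxt => by
          haveI := nonempty_piece X x.1 S.Y (S.hmem x hx)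
          simp only [E, dif_pos (show x ∈ S.s from hx)]
          rw [pushP_pull_disjoint T (S.g (t k.1) (hts k.1 k.2)) (S.g x hx)
            (S.disjoint_g x hx (t k.1) (hts k.1 k.2) hxt)]
          exact (congrArg _ (cls_map_zero T _)).trans (map_zero _)
        rw [Finset.sum_eq_single_of_mem (t k.1) (hts k.1 k.2) hne0]
        refine Eq.trans ?_ (PreTheory.PtPush.famTot_lof t F M i₂ n₂ _ _).symm
        simp only [E, dif_pos (show t k.1 ∈ S.s from hts k.1 k.2)]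
        refine congrArg _ ?_
        rw [PreTheory.ResData.tot_apply]
        rw [show (T.pull (S.g (t k.1) (hts k.1 k.2)) M i₂ n₂).hom
            ((pushP T (S.g (t k.1) (hts k.1 k.2)) M i₂ n₂).hom (v k)) = v k from
          congrArg (fun ψ => ψ.hom (v k)) (pushP_pull_self T _ M i₂ n₂), ← hY,
          cpt_cls T Q' M i n i₂ n₂ h4 h4' S' k.1 k.2]
        exact (cpt_pieceMap (F k.1) M i₂ n₂ S.Y (S.hmem _ (hts k.1 k.2)) _).symm

end Main

section Representative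

/-- Classes at a point have representatives on opens which miss only part of its closure. -/
lemma exists_open_of_ptIdx {c : ℕ} (x : X.scheme) (hc : WeilCoh.codim X.scheme x = c) (W : ptIdx X x) :
    ∃ O : X.scheme.Opens, ContainsFj X c O ∧ (∀ z, z ∉ O → x ⤳ z) ∧ X.ptSubι x ⁻¹ᵁ O ≤ W.1 := by
  let C : Closeds X.scheme := ⟨X.ptSubι x '' (W.1 : Set (X.ptSub x).scheme)ᶜ,
    (X.ptSubι x).isClosedEmbedding.isClosedMap _ W.1.isOpen.isClosed_compl⟩
  refine ⟨C.compl, containsFj_compl C ?_, fun z hz => ?_, fun w hw => ?_⟩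
  · rintro _ ⟨w, hw, rfl⟩
    rw [← hc]
    have hsp := (ptGen_specializes X x w).map (X.ptSubι x).continuous
    rw [ptSubι_ptGen] at hsp
    refine codim_lt_of_specializes X hsp fun h => hw ?_
    rw [show w = ptGen X x from
      (X.ptSubι x).isClosedEmbedding.injective (h.symm.trans (ptSubι_ptGen X x).symm)]
    exact ptGen_mem W.2.1
  · obtain ⟨w, -, rfl⟩ : z ∈ C := not_not.1 hz
    have hsp := (ptGen_specializes X x w).map (X.ptSubι x).continuous
    rwa [ptSubι_ptGen] at hsp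
  · by_contra h
    exact hw ⟨w, h, rfl⟩

end Representative

/-- The composite of residue and push-forward at a point is that of its normalisation. -/
theorem resTot_pushCpt_eq (hred : IsNilInvariant T) [IrreducibleSpace ↥Y.scheme] {q : ℕ}
    (w : X.cdPt q) (hη : WeilCoh.codim Y.scheme (genericPoint Y.scheme) = 0)
    (P : T.PushData X q) (Q : T.ResData X q) (L : T.PtPush φ (genericPoint Y.scheme) w.1)
    (P' : T.PushData Y 0) (Q' : T.ResData Y 0) (t : Y.cdPt 1 → X.cdPt (q + 1))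
    (F : ∀ y : Y.cdPt 1, T.PtPush φ y.1 (t y).1)
    (M : A.Cat) (i n i₁ n₁ i₂ n₂ i₃ n₃ : ℤ)
    (h1 : i₁ = i + 2 * (q : ℤ)) (h1' : n₁ = n + (q : ℤ))
    (h2 : i₂ = i₁ + 1 - 2 * ((q : ℤ) + 1)) (h2' : n₂ = n₁ - ((q : ℤ) + 1))
    (h3 : i₃ = i + 2 * ((0 : ℕ) : ℤ)) (h3' : n₃ = n + ((0 : ℕ) : ℤ))
    (h4 : i₂ = i₃ + 1 - 2 * (((0 : ℕ) : ℤ) + 1)) (h4' : n₂ = n₃ - (((0 : ℕ) : ℤ) + 1))
    (a : T.ptGp Y (genericPoint Y.scheme) M i n) :
    (Q.tot M i₁ n₁ i₂ n₂ h2 h2').hom ((P.cpt w M i n i₁ n₁ h1 h1').hom ((L.cpt M i n).hom a)) =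
      (PreTheory.PtPush.famTot t F M i₂ n₂).hom
        ((Q'.tot M i₃ n₃ i₂ n₂ h4 h4').hom
          ((P'.cpt ⟨genericPoint Y.scheme, hη⟩ M i n i₃ n₃ h3 h3').hom a)) := by
  obtain rfl : i₃ = i := by simpa using h3
  obtain rfl : n₃ = n := by simpa using h3'
  obtain ⟨W, a, rfl⟩ := exists_cls T a
  obtain ⟨W', hW'⟩ := exists_open_over φ L.maps_pt L.codim_eq W
  obtain ⟨O, hO, hOw, hOW⟩ := exists_open_of_ptIdx w.1 w.2 W'
  have h0 : ∀ y : Y.scheme, WeilCoh.codim Y.scheme y = 0 → WeilCoh.codim X.scheme (φ y) ≤ q := by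
    intro y hy
    by_cases e : genericPoint Y.scheme = y
    · rw [← e, L.maps_pt, w.2]
    · have := codim_lt_of_specializes Y (genericPoint_specializes y) e
      omega
  have hq : (WeilCoh.dim X.scheme : ℤ) = WeilCoh.dim Y.scheme + q := by
    have e1 := codim_add_pdim X w.1
    have e2 := codim_add_pdim Y (genericPoint Y.scheme)
    rw [pdim_eq_of_ptPush L, hη] at e2
    rw [w.2] at e1
    omega
  have hOφ : ∀ z, z ∉ O → z ∈ Set.range φ := fun z hz => by
    refine φ.isClosedMap.isClosed_range.closure_subset_iff.2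
      (Set.singleton_subset_iff.2 ⟨genericPoint Y.scheme, L.maps_pt⟩) ?_
    exact specializes_iff_mem_closure.1 (hOw z hz)
  have hwO : w.1 ∈ O := hO w.1 w.2.le
  have hηO := mem_pre φ L.maps_pt O hwO
  have hle : (pieceIdx Y (genericPoint Y.scheme) (φ ⁻¹ᵁ O) hηO).1 ≤ W.1 := fun v hv => hW' (hOW (by
    change X.ptSubι w.1 (ptMap φ L.maps_pt v) ∈ O
    rw [← Scheme.Hom.comp_apply, ptMap_ι]
    exact hv))
  have hV := containsFj_pre (φ := φ) h0 hO
  let b := (shrink T (U := W) (U' := pieceIdx Y (genericPoint Y.scheme) (φ ⁻¹ᵁ O) hηO) hle).hom a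
  have hb : pcls T Y M i₃ n₃ (genericPoint Y.scheme) (φ ⁻¹ᵁ O) hηO b =
      cls T (Y.ptSub (genericPoint Y.scheme)) _ M i₃ n₃ W a := cls_shrink T hle a
  rw [← hb, cpt_pieceMap L M i₃ n₃ O hwO b, cpt_pcls T P w M i₃ n₃ i₁ n₁ h1 h1' hO]
  refine Eq.trans ?_ (congrArg (fun z => (PreTheory.PtPush.famTot t F M i₂ n₂).hom
    ((Q'.tot M i₃ n₃ i₂ n₂ h4 h4').hom z))
      (cpt_pcls T P' ⟨genericPoint Y.scheme, hη⟩ M i₃ n₃ i₃ n₃ h3 h3' hV b).symm)
  have hp := relCodim_pieceMap φ L.maps_pt O hwO (pdim_eq_of_ptPush L)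
  have hcw := relCodim_piece X w.1 O hwO w.2 (dim_opens_of_containsFj hO)
  have hcη := relCodim_piece Y (genericPoint Y.scheme) (φ ⁻¹ᵁ O) hηO hη (dim_opens_of_containsFj hV)
  have hcf := relCodim_fRes (φ := φ) hq h0 hO
  have hc : relCodim (piece Y (genericPoint Y.scheme) (φ ⁻¹ᵁ O) hηO).scheme (X.res O).scheme = q := by
    simp only [relCodim] at hp hcw ⊢
    omega
  rw [← resTot_push_eq hred hq h0 t F Q Q' hO hOφ M i₃ n₃ i₁ n₁ i₂ n₂ h1 h1' h2 h2' h4 h4']
  congr 2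
  rw [← comp_apply' (T.push (pieceMap φ L.maps_pt O hwO) M i₃ n₃ i₃ n₃ _ _),
    ← comp_apply' (T.push (pieceι Y (genericPoint Y.scheme) (φ ⁻¹ᵁ O) hηO) M i₃ n₃ i₃ n₃ _ _),
    T.push_comp (pieceMap φ L.maps_pt O hwO) (pieceι X w.1 O hwO) M i₃ n₃ i₃ n₃ i₁ n₁ _ _ _ _
      (by rw [hc]; exact h1) (by rw [hc]; exact h1'),
    T.push_comp (pieceι Y (genericPoint Y.scheme) (φ ⁻¹ᵁ O) hηO) (fRes φ O) M i₃ n₃ i₃ n₃ i₁ n₁ _ _ _ _
      (by rw [hc]; exact h1) (by rw [hc]; exact h1')]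
  exact congrArg (fun ψ => ψ.hom b) (push_congr T _ _ (pieceMap_ι φ L.maps_pt O hwO) M i₃ n₃ i₁ n₁ _ _)

end BMLib
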