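import Groth.Agent.BMLib.Seq

/-!
# The long exact sequence of the groups of the loci of bounded codimension
-/

universe u

noncomputable section

open AlgebraicGeometry CategoryTheory CategoryTheory.Limits TopologicalSpace Opposite BMCoh

namespace BMLib

variable {V : ObjectProperty Scheme.{u}} [IsConstructible V] {R : Type u} [CommRing R] {A : Coefs R}
variable (T : PreTheory V R A) {X : Obj V} {j : ℕ}

/-- An open inside `U` whose complement near `F_(j+1)` is covered by `s`, as a stratum. -/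
lemma opn_le_of_cover (S : Strat X j) {U : X.scheme.Opens}
    (hcov : ∀ y ∈ S.Y, y ∈ U ∨ ∃ z ∈ S.s, y ∈ closure ({z.1} : Set X.scheme)) : S.opn ≤ U := by
  rintro y ⟨hyY, hyC⟩
  rcases hcov y hyY with h | h
  · exact h
  · exact absurd (mem_closures.2 h) hyC

/-- A class on the open part whose residues have zero classes at the points extends. -/
lemma exists_extend (S : Strat X j) (hSY : ContainsFj X (j + 1) S.Y) (M : A.Cat) (i n i' n' : ℤ)
    (hi : i' = i + 1 - 2 * ((j : ℤ) + 1)) (hn : n' = n - ((j : ℤ) + 1)) (b : T.gp (X.res S.opn) M i n)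
    (h : ∀ x (hx : x ∈ S.s), pcls T X M i' n' x.1 S.Y (S.hmem x hx) ((T.pull (S.g x hx) M i' n').hom
      ((T.res S.D M i n i' n' (by rw [S.codim_D]; exact hi) (by rw [S.codim_D]; exact hn)).hom b)) = 0) :
    ∃ c', ((T.fjRes X (Nat.le_succ j) i n).app M).hom c' = cls T X _ M i n S.opnIdx b := by
  have hD : i' = i + 1 - 2 * S.D.codim := by rw [S.codim_D]; exact hi
  have hD' : n' = n - S.D.codim := by rw [S.codim_D]; exact hn
  have hz : ∀ x (hx : x ∈ S.s), ∃ Y₁, ContainsFj X (j + 1) Y₁ ∧ ∀ Y' (h' : Y' ≤ S.Y), Y' ≤ Y₁ →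
      ∀ hx', (T.pull (pieceLE X x.1 (S.hmem x hx) h' hx') M i' n').hom
        ((T.pull (S.g x hx) M i' n').hom ((T.res S.D M i n i' n' hD hD').hom b)) = 0 := fun x hx => by
    refine pcls_eq_zero T X M i' n' x.1 x.2 ?_
    exact h x hx
  choose Yf hYf hzf using hz
  let Y₁ := S.Y ⊓ S.s.attach.inf fun k => Yf k.1 k.2
  have hY₁ : ContainsFj X (j + 1) Y₁ :=
    containsFj_inter hSY (containsFj_finsetInf _ _ fun k _ => hYf k.1 k.2)
  have hle : Y₁ ≤ S.Y := inf_le_left
  let S₁ := S.restr hle hY₁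
  have hD₁ : i' = i + 1 - 2 * S₁.D.codim := by rw [S₁.codim_D]; exact hi
  have hD₁' : n' = n - S₁.D.codim := by rw [S₁.codim_D]; exact hn
  have hres : (T.res S₁.D M i n i' n' hD₁ hD₁').hom ((T.pull (S.uLE hle hY₁) M i n).hom b) = 0 := by
    rw [← comp_apply', ← S.res_restr hle hY₁ T M i n i' n' hD hD' hD₁ hD₁']
    refine S₁.eq_zero_of_pull T _ fun x hx => ?_
    rw [comp_apply', ← comp_apply', ← pull_comp T, S.g_zLE hle hY₁ x hx, pull_comp T, comp_apply']
    exact hzf x hx Y₁ hle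
      (inf_le_right.trans (Finset.inf_le (f := fun k : S.s => Yf k.1 k.2) (Finset.mem_attach _ ⟨x, hx⟩))) _
  obtain ⟨a', ha'⟩ := (T.exact_pull_res S₁.D M i n i' n' hD₁ hD₁' _).1 hres
  refine ⟨cls T X _ M i n (fIdx hY₁) a', ?_⟩
  rw [ocolimMap_cls]
  refine (cls_shrink T (U := (⟨Y₁, containsFj_mono X (Nat.le_succ j) Y₁ hY₁,
    dim_opens_of_containsFj hY₁⟩ : Idx X (ContainsFj X j))) (U' := S₁.opnIdx) S₁.opn_le a').symm.trans ?_
  refine (congrArg (cls T X _ M i n S₁.opnIdx) ha').trans ?_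
  exact cls_shrink T (U := S.opnIdx) (U' := S₁.opnIdx) (S.opn_restr_le hle hY₁) b

theorem exact_res_tot (Q : T.ResData X j) (M : A.Cat) (i n i' n' : ℤ)
    (hi : i' = i + 1 - 2 * ((j : ℤ) + 1)) (hn : n' = n - ((j : ℤ) + 1)) :
    Function.Exact ((T.fjRes X (Nat.le_succ j) i n).app M).hom (Q.tot M i n i' n' hi hn).hom := by
  classical
  refine fun c => ⟨fun hc => ?_, ?_⟩
  · obtain ⟨U, a, rfl⟩ := exists_cls T c
    have hcx : ∀ x : X.cdPt (j + 1),
        (Q.cpt x M i n i' n' hi hn).hom (cls T X _ M i n U a) = 0 := fun x =>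
      (Q.tot_apply M i n i' n' hi hn _ x).symm.trans (by rw [hc]; rfl)
    obtain ⟨s, Y₀, hY₀, hgood, hcov⟩ := exists_cover X U.1 U.2.1
    rcases s.eq_empty_or_nonempty with rfl | hne
    · have hle : Y₀ ≤ U.1 := fun y hy => (hcov y hy).elim id fun ⟨z, hz, _⟩ => absurd hz (Finset.notMem_empty z)
      let U' : Idx X (ContainsFj X j) := fIdx (containsFj_mono X (Nat.le_succ j) Y₀ hY₀)
      refine ⟨cls T X _ M i n (fIdx hY₀) ((shrink T (U := U) (U' := U') hle).hom a), ?_⟩
      rw [ocolimMap_cls]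
      exact cls_shrink T (U := U) (U' := U') hle a
    · let S : Strat X j :=
        ⟨s, Y₀, containsFj_mono X (Nat.le_succ j) Y₀ hY₀, fun x _ => hY₀ x.1 x.2.le, hgood, hne⟩
      have hopn : S.opn ≤ U.1 := opn_le_of_cover S hcov
      let b : T.gp (X.res S.opn) M i n := (shrink T (U := U) (U' := S.opnIdx) hopn).hom a
      have hb : cls T X _ M i n S.opnIdx b = cls T X _ M i n U a := cls_shrink T hopn a
      obtain ⟨c', hc'⟩ := exists_extend T S hY₀ M i n i' n' hi hn b fun x hx => by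
        rw [← cpt_cls T Q M i n i' n' hi hn S x hx b, hb]
        exact hcx x
      exact ⟨c', hc'.trans hb⟩
  · rintro ⟨c', rfl⟩
    obtain ⟨U, a, rfl⟩ := exists_cls T c'
    refine DFinsupp.ext fun x => ?_
    rw [ocolimMap_cls, Q.tot_apply]
    exact cpt_cls_eq_zero T Q M i n i' n' hi hn x
      ⟨U.1, containsFj_mono X (Nat.le_succ j) U.1 U.2.1, U.2.2⟩ (U.2.1 x.1 x.2.le) a

/-- Finitely many classes at points have representatives on a common open. -/
lemma exists_common_reps {c : ℕ} (M : A.Cat) (a b : ℤ) (s : Finset (X.cdPt c))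
    (Yg : X.scheme.Opens) (hYg : ContainsFj X c Yg) (z : ∀ x : X.cdPt c, T.ptGp X x.1 M a b) :
    ∃ Y : X.scheme.Opens, ∃ hY : ContainsFj X c Y, Y ≤ Yg ∧
      ∃ w : ∀ x ∈ s, T.gp (piece X x.1 Y (hY x.1 x.2.le)) M a b,
        ∀ x (hx : x ∈ s), pcls T X M a b x.1 Y (hY x.1 x.2.le) (w x hx) = z x := by
  have hrep : ∀ x : X.cdPt c, ∃ Y, ∃ hY : ContainsFj X c Y, ∃ e,
      pcls T X M a b x.1 Y (hY x.1 x.2.le) e = z x := fun x => exists_pcls T X M a b x.1 x.2 (z x)
  choose Yf hYf af haf using hrep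
  have hY : ContainsFj X c (Yg ⊓ s.inf Yf) :=
    containsFj_inter hYg (containsFj_finsetInf s Yf fun x _ => hYf x)
  refine ⟨Yg ⊓ s.inf Yf, hY, inf_le_left,
    fun x hx => (T.pull (pieceLE X x.1 (hYf x x.1 x.2.le) (inf_le_right.trans (Finset.inf_le hx))
      (hY x.1 x.2.le)) M a b).hom (af x), fun x hx => ?_⟩
  exact (pcls_shrink T X M a b x.1 (hYf x x.1 x.2.le) _ (hY x.1 x.2.le) (af x)).trans (haf x)

theorem exact_tot_push (Q : T.ResData X j) (P : T.PushData X (j + 1)) (M : A.Cat) (i n i' n' : ℤ)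
    (hi : i' = i + 1 - 2 * ((j : ℤ) + 1)) (hn : n' = n - ((j : ℤ) + 1))
    (hi2 : i + 1 = i' + 2 * ((j + 1 : ℕ) : ℤ)) (hn2 : n = n' + ((j + 1 : ℕ) : ℤ)) :
    Function.Exact (Q.tot M i n i' n' hi hn).hom (P.tot M i' n' (i + 1) n hi2 hn2).hom := by
  classical
  refine fun ζ => ⟨fun hζ => ?_, ?_⟩
  · let s : Finset (X.cdPt (j + 1)) := DFinsupp.support ζ
    have hout : ∀ x ∉ s, ζ x = 0 := fun x hx => DFinsupp.notMem_support_iff.1 hx
    rcases s.eq_empty_or_nonempty with he | hne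
    · refine ⟨0, ?_⟩
      rw [map_zero]
      exact (DFinsupp.ext fun x => hout x (he ▸ Finset.notMem_empty x)).symm
    obtain ⟨Yg, hYg, hgood⟩ := exists_good X s
    obtain ⟨Y, hY, hYle, w, hw⟩ := exists_common_reps T M i' n' s Yg hYg fun x => ζ x
    let S : Strat X j := ⟨s, Y, containsFj_mono X (Nat.le_succ j) Y hY, fun x _ => hY x.1 x.2.le,
      hgood.mono hYle, hne⟩
    have hc : ∀ {Y' : X.scheme.Opens} (hY' : ContainsFj X (j + 1) Y') (k : S.s),
        relCodim (piece X k.1.1 Y' (hY' k.1.1 k.1.2.le)).scheme (X.res Y').scheme = ((j + 1 : ℕ) : ℤ) :=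
      fun hY' k => relCodim_piece X _ _ _ k.1.2 (dim_opens_of_containsFj hY')
    have hsum : cls T X _ M (i + 1) n (fIdx hY) (∑ k ∈ S.s.attach,
        (T.push (pieceι X k.1.1 Y (hY k.1.1 k.1.2.le)) M i' n' (i + 1) n
          (by rw [hc hY k]; exact hi2) (by rw [hc hY k]; exact hn2)).hom (w k.1 k.2)) = 0 := by
      rw [← hζ, tot_eq_sum T P M i' n' (i + 1) n hi2 hn2 ζ s hout, cls_sum, ← Finset.sum_attach s]
      refine Finset.sum_congr rfl fun k _ => ?_
      rw [← cpt_pcls T P k.1 M i' n' (i + 1) n hi2 hn2 hY, hw]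
    obtain ⟨U', hle, h0⟩ := cls_eq_zero T hsum
    let S' := S.restr (Y' := U'.1) hle U'.2.1
    let w' : ∀ x (hx : x ∈ S'.s), T.gp (S'.W x hx) M i' n' := fun x hx =>
      (T.pull (pieceLE X x.1 (hY x.1 x.2.le) hle (U'.2.1 x.1 x.2.le)) M i' n').hom (w x hx)
    have hcD : relCodim S'.D.Z.scheme (X.res S'.Y).scheme = (j : ℤ) + 1 := S'.codim_D
    have hpush : (T.push S'.D.i M i' n' (i + 1) n (by rw [hcD]; omega) (by rw [hcD]; omega)).hom
        (S'.glue T w') = 0 := by
      rw [S'.push_glue T, ← h0, map_sum]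
      refine Finset.sum_congr rfl fun k _ => ?_
      exact (pull_push_piece T k.1.1 _ hle _ _ M i' n' (i + 1) n _ _ _ _ _).symm
    obtain ⟨b, hb⟩ := (T.exact_res_push S'.D M i n i' n' (by rw [S'.codim_D]; exact hi)
      (by rw [S'.codim_D]; exact hn) _ _ _).1 hpush
    refine ⟨cls T X _ M i n S'.opnIdx b, DFinsupp.ext fun x => ?_⟩
    rw [Q.tot_apply]
    by_cases hx : x ∈ S'.s
    · refine (cpt_cls T Q M i n i' n' hi hn S' x hx b).trans ?_
      rw [hb, S'.pull_glue T]
      exact (pcls_shrink T X M i' n' x.1 (hY x.1 x.2.le) hle (U'.2.1 x.1 x.2.le) (w x hx)).trans (hw x hx)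
    · rw [hout x hx]
      refine cpt_eq_zero_of_cover T Q M i n i' n' hi hn (U := S'.opnIdx) U'.2.1 (fun y hy => ?_) b x hx
      by_cases h : y ∈ closures S'.s
      · exact Or.inr (mem_closures.1 h)
      · exact Or.inl ⟨hy, h⟩
  · rintro ⟨c, rfl⟩
    obtain ⟨U, a, rfl⟩ := exists_cls T c
    obtain ⟨s, Y, hY, hgood, hcov⟩ := exists_cover X U.1 U.2.1
    rw [tot_eq_sum T P M i' n' (i + 1) n hi2 hn2 _ s fun x hx =>
      (Q.tot_apply M i n i' n' hi hn _ x).trans (cpt_eq_zero_of_cover T Q M i n i' n' hi hn hY hcov a x hx)]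
    rcases s.eq_empty_or_nonempty with rfl | hne
    · rfl
    let S : Strat X j :=
      ⟨s, Y, containsFj_mono X (Nat.le_succ j) Y hY, fun x _ => hY x.1 x.2.le, hgood, hne⟩
    have hopn : S.opn ≤ U.1 := opn_le_of_cover S hcov
    rw [← cls_shrink T (U := U) (U' := S.opnIdx) hopn a]
    let r := (T.res S.D M i n i' n' (by rw [S.codim_D]; exact hi) (by rw [S.codim_D]; exact hn)).hom
      ((shrink T (U := U) (U' := S.opnIdx) hopn).hom a)
    have hcD : relCodim S.D.Z.scheme (X.res S.Y).scheme = (j : ℤ) + 1 := S.codim_D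
    have h0 : (T.push S.D.i M i' n' (i + 1) n (by rw [hcD]; omega) (by rw [hcD]; omega)).hom
        (S.glue T fun x hx => (T.pull (S.g x hx) M i' n').hom r) = 0 := by
      rw [S.glue_pull T]
      exact (T.exact_res_push S.D M i n i' n' _ _ _ _).apply_apply_eq_zero _
    rw [S.push_glue T] at h0
    have h1 := congrArg (cls T X _ M (i + 1) n (fIdx hY)) h0
    rw [cls_sum, cls_map_zero] at h1
    rw [← Finset.sum_attach s]
    refine (Finset.sum_congr rfl fun k _ => ?_).trans h1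
    rw [Q.tot_apply, cpt_cls T Q M i n i' n' hi hn S k.1 k.2]
    exact cpt_pcls T P k.1 M i' n' (i + 1) n hi2 hn2 hY _

theorem exact_push_res (P : T.PushData X (j + 1)) (M : A.Cat) (i n i' n' : ℤ)
    (hi : i' = i + 2 * ((j + 1 : ℕ) : ℤ)) (hn : n' = n + ((j + 1 : ℕ) : ℤ)) :
    Function.Exact (P.tot M i n i' n' hi hn).hom ((T.fjRes X (Nat.le_succ j) i' n').app M).hom := by
  classical
  obtain ⟨k, rfl⟩ : ∃ k, i' = k + 1 := ⟨i' - 1, by ring⟩
  refine fun c => ⟨fun hc => ?_, ?_⟩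
  · obtain ⟨U, a, rfl⟩ := exists_cls T c
    rw [ocolimMap_cls] at hc
    obtain ⟨U', hle, h0⟩ := cls_eq_zero T hc
    obtain ⟨s, Y₀, hY₀, hgood, hcov⟩ := exists_cover X U'.1 U'.2.1
    let Y := Y₀ ⊓ U.1
    have hY : ContainsFj X (j + 1) Y := containsFj_inter hY₀ U.2.1
    let aY : T.gp (X.res Y) M (k + 1) n' := (shrink T (U := U) (U' := fIdx hY) inf_le_right).hom a
    have haY : cls T X _ M (k + 1) n' (fIdx hY) aY = cls T X _ M (k + 1) n' U a := cls_shrink T _ a
    rcases s.eq_empty_or_nonempty with rfl | hne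
    · have hY' : Y ≤ U'.1 := fun y hy =>
        (hcov y hy.1).elim id fun ⟨z, hz, _⟩ => absurd hz (Finset.notMem_empty z)
      refine ⟨0, ?_⟩
      have e : aY = 0 := by
        refine (pull_resLE_resLE T hY' hle ((dim_opens_of_containsFj hY).trans U'.2.2.symm)
          (U'.2.2.trans U.2.2.symm) M (k + 1) n' a).symm.trans ?_
        exact (congrArg _ h0).trans (map_zero _)
      rw [← haY, e, cls_map_zero, map_zero]
    · let S : Strat X j := ⟨s, Y, containsFj_mono X (Nat.le_succ j) Y hY, fun x _ => hY x.1 x.2.le,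
        hgood.mono inf_le_left, hne⟩
      have hopn : S.opn ≤ U'.1 := opn_le_of_cover S fun y hy => hcov y hy.1
      have hcD : relCodim S.D.Z.scheme (X.res S.Y).scheme = (j : ℤ) + 1 := S.codim_D
      have hzero : (T.pull S.D.j M (k + 1) n').hom aY = 0 := by
        refine (pull_resLE_resLE T S.opn_le (show Y ≤ U.1 from inf_le_right) _
          ((fIdx hY).2.2.trans U.2.2.symm) M (k + 1) n' a).trans ?_
        refine (pull_resLE_resLE T hopn hle (S.opnIdx.2.2.trans U'.2.2.symm)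
          (U'.2.2.trans U.2.2.symm) M (k + 1) n' a).symm.trans ?_
        exact (congrArg _ h0).trans (map_zero _)
      obtain ⟨r, hr⟩ := (T.exact_push_pull S.D M k n' i n (by rw [hcD]; omega) (by rw [hcD]; omega) aY).1 hzero
      let w : ∀ x (hx : x ∈ S.s), T.gp (S.W x hx) M i n := fun x hx => (T.pull (S.g x hx) M i n).hom r
      refine ⟨∑ l ∈ s.attach, DirectSum.lof R (X.cdPt (j + 1))
        (fun y : X.cdPt (j + 1) => T.ptGp X y.1 M i n) l.1
        (pcls T X M i n l.1.1 Y (hY l.1.1 l.1.2.le) (w l.1 l.2)), ?_⟩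
      rw [map_sum, ← haY, ← hr, ← S.glue_pull T r, S.push_glue T, cls_sum]
      refine Finset.sum_congr rfl fun l _ => ?_
      exact (P.tot_lof M i n (k + 1) n' hi hn l.1 _).trans (cpt_pcls T P l.1 M i n (k + 1) n' hi hn hY _)
  · rintro ⟨ζ, rfl⟩
    rw [tot_eq_sum T P M i n (k + 1) n' hi hn ζ (DFinsupp.support ζ)
      fun x hx => DFinsupp.notMem_support_iff.1 hx, map_sum]
    refine Finset.sum_eq_zero fun x _ => ?_
    obtain ⟨Y, hY, a, ha⟩ := exists_pcls T X M i n x.1 x.2 (ζ x)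
    rw [← ha, cpt_pcls T P x M i n (k + 1) n' hi hn hY, ocolimMap_cls]
    let S : Strat X j := ⟨{x}, Y, containsFj_mono X (Nat.le_succ j) Y hY,
      fun y _ => hY y.1 y.2.le, fun y hy z hz hne => absurd
        ((Finset.mem_singleton.1 hy).trans (Finset.mem_singleton.1 hz).symm) hne,
      Finset.singleton_nonempty x⟩
    have hcD : relCodim S.D.Z.scheme (X.res S.Y).scheme = (j : ℤ) + 1 := S.codim_D
    refine (cls_shrink T (U := (⟨Y, containsFj_mono X (Nat.le_succ j) Y hY,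
      dim_opens_of_containsFj hY⟩ : Idx X (ContainsFj X j))) (U' := S.opnIdx) S.opn_le _).symm.trans ?_
    have hx : x ∈ S.s := Finset.mem_singleton_self x
    have e := (T.exact_push_pull S.D M k n' i n (by rw [hcD]; omega) (by rw [hcD]; omega)).apply_apply_eq_zero
      ((pushP T (S.g x hx) M i n).hom a)
    have hc := relCodim_hom (S.g x hx)
    have hc' : relCodim (S.W x hx).scheme (X.res S.Y).scheme =
        relCodim S.D.Z.scheme (X.res S.Y).scheme := by
      simp only [relCodim, (S.g x hx).dim_eq]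
    rw [← comp_apply' (pushP T (S.g x hx) M i n), pushP,
      T.push_comp (S.g x hx).hom S.D.i M i n i n (k + 1) n' (by rw [hc]; ring) (by rw [hc]; ring) _ _
        (by rw [hc', hcD]; omega) (by rw [hc', hcD]; omega),
      push_congr T _ _ (S.g_i x hx)] at e
    exact (congrArg _ e).trans (map_zero _)

end BMLib

namespace BMLib

variable {V : ObjectProperty Scheme.{u}} [IsConstructible V] {R : Type u} [CommRing R] {A : Coefs R}
variable (T : PreTheory V R A) {X : Obj V} {j : ℕ}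

theorem subsingleton_pushData : Subsingleton (T.PushData X j) := ⟨fun P P' => by
  have e : P.cpt = P'.cpt := by
    funext x M i n i' n' hi hn
    refine ModuleCat.hom_ext (LinearMap.ext fun z => ?_)
    obtain ⟨Y, hY, a, rfl⟩ := exists_pcls T X M i n x.1 x.2 z
    rw [cpt_pcls T P x M i n i' n' hi hn hY a, cpt_pcls T P' x M i n i' n' hi hn hY a]
  cases P; cases P'
  simp only at e
  subst e
  rfl⟩

theorem subsingleton_resData : Subsingleton (T.ResData X j) := ⟨fun Q Q' => by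
  classical
  have e : Q.cpt = Q'.cpt := by
    funext x M i n i' n' hi hn
    refine ModuleCat.hom_ext (LinearMap.ext fun z => ?_)
    obtain ⟨U, a, rfl⟩ := exists_cls T z
    obtain ⟨s, Y, hY, hgood, hcov⟩ := exists_cover X U.1 U.2.1
    by_cases hx : x ∈ s
    · let S : Strat X j := ⟨s, Y, containsFj_mono X (Nat.le_succ j) Y hY,
        fun y _ => hY y.1 y.2.le, hgood, ⟨x, hx⟩⟩
      have hopn : S.opn ≤ U.1 := opn_le_of_cover S hcov
      rw [← cls_shrink T (U := U) (U' := S.opnIdx) hopn a]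
      exact (cpt_cls T Q M i n i' n' hi hn S x hx _).trans (cpt_cls T Q' M i n i' n' hi hn S x hx _).symm
    · exact (cpt_eq_zero_of_cover T Q M i n i' n' hi hn hY hcov a x hx).trans
        (cpt_eq_zero_of_cover T Q' M i n i' n' hi hn hY hcov a x hx).symm
  cases Q; cases Q'
  simp only at e
  subst e
  rfl⟩

end BMLib
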