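import Groth.Agent.BMLib.Strata

/-!
# Shrinking the open of a stratum and detecting classes by its pieces
-/

universe u

noncomputable section

open AlgebraicGeometry CategoryTheory CategoryTheory.Limits TopologicalSpace Opposite BMCoh

namespace BMLib

variable {V : ObjectProperty Scheme.{u}} [IsConstructible V] {X : Obj V} {j : ℕ}

/-- An immersion into a reduced scheme with open image, through which an immersion factors, is an
open immersion. -/
lemma isOpenImmersion_of_range {A B C : Scheme.{u}} (φ : A ⟶ B) (q : B ⟶ C) [IsPreimmersion q]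
    [IsPreimmersion (φ ≫ q)] [IsReduced B] (O : B.Opens) (h : Set.range φ = (O : Set B)) :
    IsOpenImmersion φ := by
  let φ' : A ⟶ (O : Scheme.{u}) := IsOpenImmersion.lift O.ι φ (by rw [Scheme.Opens.range_ι, h])
  have hfac : φ' ≫ O.ι = φ := IsOpenImmersion.lift_fac _ _ _
  haveI : IsPreimmersion (φ' ≫ O.ι) := by
    rw [hfac]; exact IsPreimmersion.of_comp φ q
  haveI : IsPreimmersion φ' := IsPreimmersion.of_comp φ' O.ι
  haveI : Surjective φ' := ⟨fun z => by
    obtain ⟨w, hw⟩ : O.ι z ∈ Set.range φ := by rw [h]; exact z.2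
    refine ⟨w, O.ι.isOpenEmbedding.injective ?_⟩
    rw [← hw, ← hfac]
    rfl⟩
  haveI : IsClosedImmersion φ' := IsClosedImmersion.of_isPreimmersion φ' (by
    rw [φ'.surjective.range_eq]; exact isClosed_univ)
  haveI := isIso_of_isClosedImmersion_of_surjective φ'
  rw [← hfac]
  infer_instance

namespace Strat

variable (S : Strat X j) {Y' : X.scheme.Opens} (hle : Y' ≤ S.Y) (hY' : ContainsFj X (j + 1) Y')

/-- The stratum on a smaller open. -/
abbrev restr : Strat X j where
  s := S.s
  Y := Y'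
  hY := containsFj_mono X (Nat.le_succ j) Y' hY'
  hmem x _ := hY' x.1 x.2.le
  good := S.good.mono hle
  ne := S.ne

lemma opn_restr_le : (S.restr hle hY').opn ≤ S.opn := inf_le_inf hle le_rfl

lemma ker_i : S.D.i.ker = Scheme.IdealSheafData.vanishingIdeal S.cls := S.ker_Zι

/-- The closed part of the smaller stratum inside that of the larger. -/
def zHom : (S.restr hle hY').D.Z.scheme ⟶ S.D.Z.scheme :=
  IsClosedImmersion.lift S.D.i ((S.restr hle hY').D.i ≫ X.scheme.homOfLE hle) (by
    haveI := (S.restr hle hY').isReduced_Z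
    rw [ker_i]
    refine vanishingIdeal_le_ker _ _ ?_
    rintro z ⟨w, rfl⟩
    have hw : (S.restr hle hY').D.i w ∈ Set.range (S.restr hle hY').D.i := ⟨w, rfl⟩
    rw [range_i] at hw
    have e := congr($(X.scheme.homOfLE_ι hle) ((S.restr hle hY').D.i w))
    change S.Y.ι _ ∈ (closures S.s : Set X.scheme)
    exact Set.mem_of_eq_of_mem e hw)

lemma zHom_i : S.zHom hle hY' ≫ S.D.i = (S.restr hle hY').D.i ≫ X.scheme.homOfLE hle :=
  IsClosedImmersion.lift_fac _ _ _

lemma range_zHom : Set.range (S.zHom hle hY') =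
    (S.D.i ⁻¹ᵁ (X.scheme.homOfLE hle).opensRange : Set S.D.Z.scheme) := by
  ext z
  constructor
  · rintro ⟨w, rfl⟩
    exact ⟨(S.restr hle hY').D.i w, (congr($(S.zHom_i hle hY') w)).symm⟩
  · rintro ⟨y, hy⟩
    have hz : S.D.i z ∈ Set.range S.D.i := ⟨z, rfl⟩
    rw [range_i, ← hy] at hz
    have e := congr($(X.scheme.homOfLE_ι hle) y)
    have hy' : y ∈ Set.range (S.restr hle hY').D.i := by
      rw [range_i]
      change Y'.ι y ∈ (closures S.s : Set X.scheme)
      rw [← e]
      exact hz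
    obtain ⟨w, rfl⟩ := hy'
    refine ⟨w, S.D.i.isClosedEmbedding.injective ?_⟩
    rw [← hy]
    exact congr($(S.zHom_i hle hY') w)

lemma isOpenImmersion_zHom : IsOpenImmersion (S.zHom hle hY') := by
  haveI := S.isReduced_Z
  haveI : IsOpenImmersion (X.scheme.homOfLE hle) := inferInstance
  haveI : IsPreimmersion ((S.restr hle hY').D.i) := inferInstance
  haveI : IsPreimmersion (S.zHom hle hY' ≫ S.D.i) := by
    rw [zHom_i]
    exact IsPreimmersion.comp (f := (S.restr hle hY').D.i) (g := X.scheme.homOfLE hle)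
  exact isOpenImmersion_of_range _ S.D.i _ (S.range_zHom hle hY')

/-- The closed part of the smaller stratum over that of the larger, as a morphism of objects. -/
def zLE : (S.restr hle hY').D.Z ⟶ S.D.Z where
  hom := S.zHom hle hY'
  isOpenImmersion := S.isOpenImmersion_zHom hle hY'
  dim_eq := by
    have h1 := S.dim_Z
    have h2 := (S.restr hle hY').dim_Z
    omega

/-- The open part of the smaller stratum over that of the larger. -/
def uLE : (S.restr hle hY').D.U ⟶ S.D.U :=
  X.resLE (S.opn_restr_le hle hY') ((S.restr hle hY').opnIdx.2.2.trans S.opnIdx.2.2.symm)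

lemma g_zLE (x : X.cdPt (j + 1)) (hx : x ∈ S.s) :
    (S.restr hle hY').g x hx ≫ S.zLE hle hY' =
      pieceLE X x.1 (S.hmem x hx) hle (hY' x.1 x.2.le) ≫ S.g x hx := by
  refine BMCoh.Hom.ext ?_
  change (S.restr hle hY').gHom x hx ≫ S.zHom hle hY' = (pieceLE X x.1 _ hle _).hom ≫ S.gHom x hx
  refine (cancel_mono S.D.i).1 ?_
  rw [Category.assoc, Category.assoc, zHom_i, ← Category.assoc, gHom_i, gHom_i]
  exact (pieceLE_ι X x.1 (S.hmem x hx) hle _).symm

variable {R : Type u} [CommRing R] {A : Coefs R} (T : PreTheory V R A)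

/-- Residues commute with shrinking the open. -/
lemma res_restr (M : A.Cat) (i n i' n' : ℤ) (hi : i' = i + 1 - 2 * S.D.codim)
    (hn : n' = n - S.D.codim) (hi' : i' = i + 1 - 2 * (S.restr hle hY').D.codim)
    (hn' : n' = n - (S.restr hle hY').D.codim) :
    T.res S.D M i n i' n' hi hn ≫ T.pull (S.zLE hle hY') M i' n' =
      T.pull (S.uLE hle hY') M i n ≫ T.res (S.restr hle hY').D M i n i' n' hi' hn' := by
  refine T.res_pull S.D (S.restr hle hY').D (X.resLE hle ((S.restr hle hY').dimY.trans S.dimY.symm))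
    (S.zLE hle hY') (S.uLE hle hY') (S.zHom_i hle hY') (BMCoh.Hom.ext ?_) M i n i' n' hi hn hi' hn'
  exact (Scheme.homOfLE_homOfLE _ (S.opn_restr_le hle hY') S.opn_le).trans
    (Scheme.homOfLE_homOfLE _ (S.restr hle hY').opn_le hle).symm

/-- The pieces detect classes on the closed part. -/
lemma eq_zero_of_pull {M : A.Cat} {a b : ℤ} (η : T.gp S.D.Z M a b)
    (h : ∀ x hx, (T.pull (S.g x hx) M a b).hom η = 0) : η = 0 := by
  refine eq_zero_of_pieces T S.s.attach S.D.Z (fun k => S.W k.1 k.2) (fun k _ => S.g k.1 k.2)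
    (fun _ _ => inferInstance) (fun k _ => nonempty_piece X k.1.1 S.Y (S.hmem k.1 k.2))
    (fun k _ l _ hne => S.disjoint_g k.1 k.2 l.1 l.2 fun e => hne (Subtype.ext e)) (fun z => ?_)
    ⟨⟨S.ne.choose, S.ne.choose_spec⟩, Finset.mem_attach _ _⟩ M a b η fun k _ => h k.1 k.2
  obtain ⟨x, hx, hz⟩ := S.exists_mem_range_g z
  exact ⟨⟨x, hx⟩, Finset.mem_attach _ _, hz⟩

/-- The class on the closed part with given restrictions to the pieces. -/
def glue {M : A.Cat} {a b : ℤ} (w : ∀ x hx, T.gp (S.W x hx) M a b) : T.gp S.D.Z M a b :=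
  ∑ k ∈ S.s.attach, (pushP T (S.g k.1 k.2) M a b).hom (w k.1 k.2)

lemma pull_glue {M : A.Cat} {a b : ℤ} (w : ∀ x hx, T.gp (S.W x hx) M a b) (x : X.cdPt (j + 1))
    (hx : x ∈ S.s) : (T.pull (S.g x hx) M a b).hom (S.glue T w) = w x hx := by
  rw [glue, map_sum, Finset.sum_eq_single (⟨x, hx⟩ : S.s)]
  · exact congrArg (fun φ => φ.hom (w x hx)) (pushP_pull_self T (S.g x hx) M a b)
  · intro k _ hne
    haveI := nonempty_piece X x.1 S.Y (S.hmem x hx)
    exact pushP_pull_disjoint T (S.g k.1 k.2) (S.g x hx)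
      (S.disjoint_g x hx k.1 k.2 fun e => hne (Subtype.ext e.symm)) M a b _
  · exact fun h => absurd (Finset.mem_attach _ _) h

lemma glue_pull {M : A.Cat} {a b : ℤ} (η : T.gp S.D.Z M a b) :
    S.glue T (fun x hx => (T.pull (S.g x hx) M a b).hom η) = η := by
  refine sub_eq_zero.1 (S.eq_zero_of_pull T _ fun x hx => ?_)
  rw [map_sub, pull_glue, sub_self]

end Strat

end BMLib
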