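import Groth.Agent.BMLib.Colim
import Mathlib.AlgebraicGeometry.Morphisms.Proper
import Mathlib.AlgebraicGeometry.Morphisms.ClosedImmersion
import Mathlib.CategoryTheory.Limits.Shapes.KernelPair

/-!
# Clopen pieces of an object
-/

universe u

noncomputable section

open AlgebraicGeometry CategoryTheory CategoryTheory.Limits TopologicalSpace Opposite BMCoh

namespace BMLib

variable {V : ObjectProperty Scheme.{u}} [IsConstructible V] {R : Type u} [CommRing R] {A : Coefs R}
variable (T : PreTheory V R A)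

omit [IsConstructible V] in
lemma relCodim_hom {W Z : Obj V} (g : W ⟶ Z) : relCodim W.scheme Z.scheme = 0 := by
  simp [relCodim, g.dim_eq]

/-- Push-forward along a clopen piece. -/
def pushP {W Z : Obj V} (g : W ⟶ Z) [IsClosedImmersion g.hom] (M : A.Cat) (i n : ℤ) :
    T.gp W M i n ⟶ T.gp Z M i n :=
  T.push g.hom M i n i n (by rw [relCodim_hom g]; ring) (by rw [relCodim_hom g]; ring)

lemma pushP_pull_self {W Z : Obj V} (g : W ⟶ Z) [IsClosedImmersion g.hom] (M : A.Cat) (i n : ℤ) :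
    pushP T g M i n ≫ T.pull g M i n = 𝟙 _ := by
  have : Mono g.hom := inferInstance
  rw [pushP, PreTheory.pull, T.push_pull g.hom (𝟙 W.scheme) g (𝟙 W) (IsKernelPair.id_of_mono g.hom) M i n
    i n _ _ (by simp [relCodim]) (by simp [relCodim]), T.push_id, Category.comp_id]
  exact pull_id T W M i n

/-- The open complement of a piece. -/
def pieceCompl {W Z : Obj V} (g : W ⟶ Z) [IsClosedImmersion g.hom] : Z.scheme.Opens :=
  ⟨(Set.range g.hom)ᶜ, g.hom.isClosedEmbedding.isClosed_range.isOpen_compl⟩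

/-- The decomposition by a piece, when another piece shows that the complement is full-dimensional. -/
def pieceDecomp {W Z : Obj V} (g : W ⟶ Z) [IsClosedImmersion g.hom]
    (hd : WeilCoh.dim (pieceCompl g : Scheme.{u}) = WeilCoh.dim Z.scheme) : Decomp Z where
  Z := W
  U := Z.res (pieceCompl g)
  i := g.hom
  closedImm := inferInstance
  j := Z.resι (pieceCompl g) hd
  range_eq := Scheme.Opens.range_ι _

lemma dim_pieceCompl {W W' Z : Obj V} (g : W ⟶ Z) [IsClosedImmersion g.hom] (g' : W' ⟶ Z)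
    [IsClosedImmersion g'.hom] [Nonempty ↥W'.scheme]
    (h : Disjoint (Set.range g'.hom) (Set.range g.hom)) :
    WeilCoh.dim (pieceCompl g : Scheme.{u}) = WeilCoh.dim Z.scheme := by
  obtain ⟨w, hw⟩ := exists_pdim_eq_dim W'
  have hmem : g'.hom w ∈ pieceCompl g := fun hmem => Set.disjoint_left.1 h ⟨w, rfl⟩ hmem
  haveI : Nonempty ↥(Z.res (pieceCompl g)).scheme := ⟨⟨_, hmem⟩⟩
  refine le_antisymm ?_ ?_
  · obtain ⟨y, hy⟩ := exists_pdim_eq_dim (Z.res (pieceCompl g))
    rw [← hy, pdim_opens]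
    exact pdim_le_dim _ _
  · rw [← g'.dim_eq, ← hw, ← pdim_map g'.hom w]
    have := pdim_le_dim (Z.res (pieceCompl g)) ⟨_, hmem⟩
    rwa [show WeilCoh.pdim (Z.res (pieceCompl g)).scheme ⟨_, hmem⟩ = WeilCoh.pdim Z.scheme (g'.hom w)
      from pdim_opens Z _ ⟨_, hmem⟩] at this

/-- A piece disjoint from `g`, inside the complement of `g`. -/
def pieceLift {W W' Z : Obj V} (g : W ⟶ Z) [IsClosedImmersion g.hom] (g' : W' ⟶ Z)
    (h : Disjoint (Set.range g'.hom) (Set.range g.hom))
    (hd : WeilCoh.dim (pieceCompl g : Scheme.{u}) = WeilCoh.dim Z.scheme) :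
    W' ⟶ Z.res (pieceCompl g) where
  hom := IsOpenImmersion.lift (pieceCompl g).ι g'.hom (by
    rw [Scheme.Opens.range_ι]
    exact fun z hz hz' => Set.disjoint_left.1 h hz hz')
  isOpenImmersion := by
    haveI : IsOpenImmersion (IsOpenImmersion.lift (pieceCompl g).ι g'.hom (by
      rw [Scheme.Opens.range_ι]
      exact fun z hz hz' => Set.disjoint_left.1 h hz hz') ≫ (pieceCompl g).ι) := by
      rw [IsOpenImmersion.lift_fac]; infer_instance
    exact IsOpenImmersion.of_comp _ (pieceCompl g).ι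
  dim_eq := g'.dim_eq.trans hd.symm

lemma pieceLift_comp {W W' Z : Obj V} (g : W ⟶ Z) [IsClosedImmersion g.hom] (g' : W' ⟶ Z)
    (h : Disjoint (Set.range g'.hom) (Set.range g.hom))
    (hd : WeilCoh.dim (pieceCompl g : Scheme.{u}) = WeilCoh.dim Z.scheme) :
    pieceLift g g' h hd ≫ Z.resι (pieceCompl g) hd = g' :=
  BMCoh.Hom.ext (IsOpenImmersion.lift_fac _ _ _)

lemma pushP_pull_disjoint {W W' Z : Obj V} (g : W ⟶ Z) [IsClosedImmersion g.hom] (g' : W' ⟶ Z)
    [IsClosedImmersion g'.hom] [Nonempty ↥W'.scheme]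
    (h : Disjoint (Set.range g'.hom) (Set.range g.hom)) (M : A.Cat) (i n : ℤ) (a : T.gp W M i n) :
    (T.pull g' M i n).hom ((pushP T g M i n).hom a) = 0 := by
  have hd := dim_pieceCompl g g' h
  obtain ⟨i, rfl⟩ : ∃ i₀, i = i₀ + 1 := ⟨i - 1, by ring⟩
  let D := pieceDecomp g hd
  have hc : relCodim W.scheme Z.scheme = 0 := relCodim_hom g
  have e := T.exact_push_pull D M i n (i + 1) n
    (by change i + 1 = i + 1 + 2 * relCodim W.scheme Z.scheme; rw [hc]; ring)
    (by change n = n + relCodim W.scheme Z.scheme; rw [hc]; ring)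
  rw [← pieceLift_comp g g' h hd, pull_comp T, comp_apply']
  have : (T.pull D.j M (i + 1) n).hom ((pushP T g M (i + 1) n).hom a) = 0 :=
    e.apply_apply_eq_zero a
  exact (congrArg _ this).trans (map_zero _)

/-- A finite family of pieces covering `Z` jointly detects classes. -/
theorem eq_zero_of_pieces {κ : Type*} (s : Finset κ) :
    ∀ (Z : Obj V) (W : κ → Obj V) (g : ∀ k ∈ s, W k ⟶ Z),
      (∀ k hk, IsClosedImmersion (g k hk).hom) → (∀ k ∈ s, Nonempty ↥(W k).scheme) →
      (∀ k hk l hl, k ≠ l → Disjoint (Set.range (g k hk).hom) (Set.range (g l hl).hom)) →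
      (∀ z : Z.scheme, ∃ k hk, z ∈ Set.range (g k hk).hom) → s.Nonempty →
      ∀ (M : A.Cat) (i n : ℤ) (η : T.gp Z M i n),
        (∀ k hk, (T.pull (g k hk) M i n).hom η = 0) → η = 0 := by
  classical
  induction s using Finset.induction with
  | empty => intro _ _ _ _ _ _ _ h; exact absurd h Finset.not_nonempty_empty
  | insert k₀ t hk₀ ih =>
    intro Z W g hg hne hdisj hcov _ M i n η hη
    have hk : k₀ ∈ insert k₀ t := Finset.mem_insert_self _ _
    haveI := hg k₀ hk
    rcases t.eq_empty_or_nonempty with rfl | ht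
    · -- a single piece is an isomorphism
      haveI : Surjective (g k₀ hk).hom := ⟨fun z => by
        obtain ⟨l, hl, hz⟩ := hcov z
        obtain rfl : l = k₀ := by simpa using hl
        exact hz⟩
      haveI : IsIso (g k₀ hk).hom :=
        (isIso_iff_isOpenImmersion_and_epi_base _).2
          ⟨inferInstance, (TopCat.epi_iff_surjective _).2 (g k₀ hk).hom.surjective⟩
      let inv' : Z ⟶ W k₀ := ⟨inv (g k₀ hk).hom, inferInstance, (g k₀ hk).dim_eq.symm⟩
      have e : inv' ≫ g k₀ hk = 𝟙 Z := BMCoh.Hom.ext (IsIso.inv_hom_id _)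
      have := congrArg (fun φ => φ.hom η) (pull_comp T inv' (g k₀ hk) M i n)
      rw [e, pull_id T, comp_apply', hη k₀ hk, map_zero] at this
      exact this
    obtain ⟨k₁, hk₁⟩ := ht
    have hk₁' : k₁ ∈ insert k₀ t := Finset.mem_insert_of_mem hk₁
    haveI := hg k₁ hk₁'
    haveI := hne k₁ hk₁'
    have hd : ∀ k (hk' : k ∈ t), Disjoint (Set.range (g k (Finset.mem_insert_of_mem hk')).hom)
        (Set.range (g k₀ hk).hom) := fun k hk' => hdisj _ _ _ _ fun he => hk₀ (he ▸ hk')
    have hdim := dim_pieceCompl (g k₀ hk) (g k₁ hk₁') (hd k₁ hk₁)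
    let g' : ∀ k ∈ t, W k ⟶ Z.res (pieceCompl (g k₀ hk)) := fun k hk' =>
      pieceLift (g k₀ hk) (g k (Finset.mem_insert_of_mem hk')) (hd k hk') hdim
    have hfac : ∀ k hk', (g' k hk').hom ≫ (pieceCompl (g k₀ hk)).ι =
        (g k (Finset.mem_insert_of_mem hk')).hom := fun k hk' => IsOpenImmersion.lift_fac _ _ _
    have hzero : (T.pull (Z.resι (pieceCompl (g k₀ hk)) hdim) M i n).hom η = 0 := by
      refine ih (Z.res (pieceCompl (g k₀ hk))) W g' (fun k hk' => ?_)
        (fun k hk' => hne k (Finset.mem_insert_of_mem hk')) (fun k hk' l hl hkl => ?_) (fun z => ?_)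
        ⟨k₁, hk₁⟩ M i n _ (fun k hk' => ?_)
      · haveI := hg k (Finset.mem_insert_of_mem hk')
        haveI : IsClosedImmersion ((g' k hk').hom ≫ (pieceCompl (g k₀ hk)).ι) := by
          rw [hfac k hk']; infer_instance
        exact IsClosedImmersion.of_comp _ (pieceCompl (g k₀ hk)).ι
      · refine Set.disjoint_left.2 ?_
        rintro z ⟨a, rfl⟩ ⟨b, hb⟩
        refine Set.disjoint_left.1 (hdisj k (Finset.mem_insert_of_mem hk') l
          (Finset.mem_insert_of_mem hl) hkl) ⟨a, rfl⟩ ⟨b, ?_⟩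
        rw [← hfac k hk', ← hfac l hl]
        exact congrArg (pieceCompl (g k₀ hk)).ι hb
      · obtain ⟨k, hk', a, ha⟩ := hcov ((pieceCompl (g k₀ hk)).ι z)
        rcases Finset.mem_insert.1 hk' with rfl | hk''
        · exact absurd ⟨a, ha⟩ z.2
        · refine ⟨k, hk'', a, (pieceCompl (g k₀ hk)).ι.isOpenEmbedding.injective ?_⟩
          rw [← ha, ← hfac k hk'']
          rfl
      · rw [← comp_apply', ← pull_comp T, pieceLift_comp]
        exact hη _ _
    obtain ⟨i, rfl⟩ : ∃ i₀, i = i₀ + 1 := ⟨i - 1, by ring⟩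
    have hc : relCodim (W k₀).scheme Z.scheme = 0 := relCodim_hom (g k₀ hk)
    obtain ⟨w, hw⟩ := (T.exact_push_pull (pieceDecomp (g k₀ hk) hdim) M i n (i + 1) n
      (by change i + 1 = i + 1 + 2 * relCodim (W k₀).scheme Z.scheme; rw [hc]; ring)
      (by change n = n + relCodim (W k₀).scheme Z.scheme; rw [hc]; ring) η).1 hzero
    change (pushP T (g k₀ hk) M (i + 1) n).hom w = η at hw
    have hw0 := hη k₀ hk
    rw [← hw] at hw0
    have hself : (T.pull (g k₀ hk) M (i + 1) n).hom ((pushP T (g k₀ hk) M (i + 1) n).hom w) = w :=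
      congrArg (fun φ => φ.hom w) (pushP_pull_self T (g k₀ hk) M (i + 1) n)
    rw [hself] at hw0
    rw [← hw, hw0, map_zero]

end BMLib
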