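import Groth.Agent.BMLib.Seq
import Groth.Prelude.Def_BMCoh4
import Mathlib.AlgebraicGeometry.SpreadingOut
import Mathlib.AlgebraicGeometry.Normalization
import Mathlib.AlgebraicGeometry.FunctionField
import Mathlib.AlgebraicGeometry.Morphisms.Proper

/-!
# Push-forward between groups of points along proper morphisms
-/

universe u

noncomputable section

open AlgebraicGeometry CategoryTheory CategoryTheory.Limits TopologicalSpace Topology Opposite BMCoh

namespace BMLib

variable {V : ObjectProperty Scheme.{u}} [IsConstructible V]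

/-- A closed map does not raise the dimension of the closures of points. -/
lemma pdim_le_of_isClosedMap {X Y : Obj V} (φ : Y.scheme ⟶ X.scheme) (hφ : IsClosedMap φ) :
    ∀ (m : ℕ) (w : Y.scheme), WeilCoh.pdim X.scheme (φ w) = m → m ≤ WeilCoh.pdim Y.scheme w := by
  intro m
  induction m with
  | zero => exact fun _ _ => Nat.zero_le _
  | succ m ih =>
    intro w hw
    -- a point of codimension one on the closure of the image
    let S := X.ptSub (φ w)
    haveI : Nonempty ↥S.scheme := ⟨ptGen X (φ w)⟩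
    obtain ⟨d, hd⟩ := exists_krullDim_eq S
    obtain ⟨l, hl⟩ := Order.le_krullDim_iff.1 (le_of_eq hd.symm)
    have hdS : WeilCoh.dim S.scheme = m + 1 := (dim_ptSub X (φ w)).trans hw
    choose v hv using fun k => QuasiSober.sober (l k).2 (l k).3
    have hd' : d = m + 1 := (dim_eq_of_krullDim hd).symm.trans hdS
    let k₁ : Fin (l.length + 1) := ⟨m, by omega⟩
    let k₂ : Fin (l.length + 1) := ⟨m + 1, by omega⟩
    have hne : v k₁ ≠ v k₂ := fun e => (l.strictMono (show k₁ < k₂ from Nat.lt_succ_self m)).ne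
      (SetLike.coe_injective (by
        rw [← show closure ({v k₁} : Set S.scheme) = (l k₁ : Set S.scheme) from hv k₁,
          ← show closure ({v k₂} : Set S.scheme) = (l k₂ : Set S.scheme) from hv k₂, e]))
    have hgen : ptGen X (φ w) ≠ v k₁ := by
      intro e
      have h2 : v k₁ ⤳ v k₂ := e ▸ ptGen_specializes X (φ w) (v k₂)
      have h1 : v k₂ ⤳ v k₁ := specializes_iff_mem_closure.2 (by
        rw [show closure ({v k₂} : Set S.scheme) = (l k₂ : Set S.scheme) from hv k₂]
        exact (l.strictMono (show k₁ < k₂ from Nat.lt_succ_self m)).le (by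
          rw [← SetLike.mem_coe, ← show closure ({v k₁} : Set S.scheme) = (l k₁ : Set S.scheme) from hv k₁]
          exact subset_closure rfl))
      exact hne (h1.antisymm h2).eq.symm
    -- the dimension of its closure is at least `m`
    have hm : m ≤ WeilCoh.pdim X.scheme (X.ptSubι (φ w) (v k₁)) := by
      rw [pdim_map, ← dim_ptSub]
      let S₁ := S.ptSub (v k₁)
      haveI : Nonempty ↥S₁.scheme := ⟨ptGen S (v k₁)⟩
      obtain ⟨d₁, hd₁⟩ := exists_krullDim_eq S₁
      rw [dim_eq_of_krullDim hd₁]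
      have hsub : ∀ i : Fin (m + 1), (l ⟨i.1, by omega⟩ : Set S.scheme) ⊆ Set.range (S.ptSubι (v k₁)) := by
        intro i
        rw [range_ptSubι, show closure ({v k₁} : Set S.scheme) = (l k₁ : Set S.scheme) from hv k₁]
        exact l.monotone (show (⟨i.1, by omega⟩ : Fin (l.length + 1)) ≤ k₁ from Nat.lt_succ_iff.1 i.2)
      have hex : ∀ i : Fin (m + 1), ∃ z, S.ptSubι (v k₁) z = v ⟨i.1, by omega⟩ := fun i => hsub i (by
        rw [← show closure ({v ⟨i.1, by omega⟩} : Set S.scheme) = (l ⟨i.1, by omega⟩ : Set S.scheme) from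
          hv ⟨i.1, by omega⟩]
        exact subset_closure rfl)
      choose z hz using hex
      let pre : Fin (m + 1) → IrreducibleCloseds ↥S₁.scheme := fun i =>
        ⟨closure {z i}, isIrreducible_singleton.closure, isClosed_closure⟩
      have hmono : StrictMono pre := fun i i' hii => by
        have h := l.strictMono (show (⟨i.1, by omega⟩ : Fin (l.length + 1)) < ⟨i'.1, by omega⟩ from hii)
        have himg : ∀ i, S.ptSubι (v k₁) '' closure {z i} = closure {v ⟨i.1, by omega⟩} := fun i => by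
          rw [← (S.ptSubι (v k₁)).isClosedEmbedding.closure_image_eq, Set.image_singleton, hz]
        have hle : closure {z i} ⊆ closure {z i'} := by
          rw [← Set.image_subset_image_iff (S.ptSubι (v k₁)).isClosedEmbedding.injective, himg, himg,
            show closure ({v ⟨i.1, by omega⟩} : Set S.scheme) = (l ⟨i.1, by omega⟩ : Set S.scheme) from hv _,
            show closure ({v ⟨i'.1, by omega⟩} : Set S.scheme) = (l ⟨i'.1, by omega⟩ : Set S.scheme) from hv _]
          exact h.le
        refine lt_of_le_of_ne hle fun he => h.ne (SetLike.coe_injective ?_)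
        rw [← show closure ({v ⟨i.1, by omega⟩} : Set S.scheme) = (l ⟨i.1, by omega⟩ : Set S.scheme) from hv _,
          ← show closure ({v ⟨i'.1, by omega⟩} : Set S.scheme) = (l ⟨i'.1, by omega⟩ : Set S.scheme) from hv _, ← himg, ← himg]
        exact congrArg (fun t : IrreducibleCloseds ↥S₁.scheme => S.ptSubι (v k₁) '' (t : Set S₁.scheme)) he
      have := Order.LTSeries.length_le_krullDim (LTSeries.mk m pre hmono)
      rw [show Order.krullDim _ = (d₁ : WithBot ℕ∞) from hd₁] at this
      exact_mod_cast this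
    -- lift it to the source
    have hmem : X.ptSubι (φ w) (v k₁) ∈ φ '' closure {w} := by
      have hcl : closure ({φ w} : Set X.scheme) ⊆ φ '' closure {w} := by
        refine closure_minimal ?_ (hφ _ isClosed_closure)
        exact Set.singleton_subset_iff.2 ⟨w, subset_closure rfl, rfl⟩
      apply hcl
      rw [← range_ptSubι]
      exact ⟨_, rfl⟩
    obtain ⟨w', hw', e⟩ := hmem
    have hww : w ≠ w' := fun h => hgen ((X.ptSubι (φ w)).isClosedEmbedding.injective
      ((ptSubι_ptGen X (φ w)).trans ((congrArg φ h).trans e)))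
    have hlt : WeilCoh.pdim Y.scheme w' < WeilCoh.pdim Y.scheme w := by
      have h1 := codim_lt_of_specializes Y (specializes_iff_mem_closure.2 hw') hww
      have h2 := codim_add_pdim Y w
      have h3 := codim_add_pdim Y w'
      omega
    -- the image of the lift has dimension exactly `m`
    have hle : WeilCoh.pdim X.scheme (φ w') ≤ m := by
      have hsp : φ w ⤳ φ w' := (specializes_iff_mem_closure.2 hw').map φ.continuous
      have hne' : φ w ≠ φ w' := fun h => hgen ((X.ptSubι (φ w)).isClosedEmbedding.injective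
        ((ptSubι_ptGen X (φ w)).trans (h.trans e)))
      have h1 := codim_lt_of_specializes X hsp hne'
      have h2 := codim_add_pdim X (φ w)
      have h3 := codim_add_pdim X (φ w')
      omega
    rw [← e] at hm
    have := ih w' (le_antisymm hle hm)
    omega

section PtMap

variable {Y X : Obj V} (φ : Y.scheme ⟶ X.scheme) {y : Y.scheme} {x : X.scheme} (hy : φ y = x)

/-- The morphism between reduced closures. -/
def ptMap : (Y.ptSub y).scheme ⟶ (X.ptSub x).scheme :=
  IsClosedImmersion.lift (X.ptSubι x) (Y.ptSubι y ≫ φ) (by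
    haveI : IsReduced (Y.ptSub y).scheme := isReduced_vanishingIdeal _
    rw [Scheme.IdealSheafData.ker_subschemeι]
    refine vanishingIdeal_le_ker _ _ ?_
    rintro z ⟨v, rfl⟩
    change φ (Y.ptSubι y v) ∈ closure ({x} : Set X.scheme)
    rw [← hy]
    have hv : Y.ptSubι y v ∈ closure ({y} : Set Y.scheme) := by rw [← range_ptSubι]; exact ⟨v, rfl⟩
    have h := image_closure_subset_closure_image (s := ({y} : Set Y.scheme)) φ.continuous ⟨_, hv, rfl⟩
    rwa [Set.image_singleton] at h)

lemma ptMap_ι : ptMap φ hy ≫ X.ptSubι x = Y.ptSubι y ≫ φ := IsClosedImmersion.lift_fac _ _ _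

lemma isProper_ptMap [IsProper φ] : IsProper (ptMap φ hy) := by
  haveI : IsProper (ptMap φ hy ≫ X.ptSubι x) := by rw [ptMap_ι]; infer_instance
  exact IsProper.of_comp _ (X.ptSubι x)

lemma ptMap_ptGen : ptMap φ hy (ptGen Y y) = ptGen X x := by
  apply (X.ptSubι x).isClosedEmbedding.injective
  rw [ptSubι_ptGen, ← Scheme.Hom.comp_apply, ptMap_ι, Scheme.Hom.comp_apply, ptSubι_ptGen, hy]

/-- Small opens of the closure of `y` lie over opens of the closure of `x`. -/
lemma exists_open_over [IsProper φ] (hd : relCodim (Y.ptSub y).scheme (X.ptSub x).scheme = 0)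
    (W : ptIdx Y y) : ∃ W' : ptIdx X x, ptMap φ hy ⁻¹ᵁ W'.1 ≤ W.1 := by
  haveI := isProper_ptMap φ hy
  let C : Closeds (X.ptSub x).scheme := ⟨ptMap φ hy '' (W.1 : Set (Y.ptSub y).scheme)ᶜ,
    (ptMap φ hy).isClosedMap _ W.1.isOpen.isClosed_compl⟩
  have hne : (C.compl : Set (X.ptSub x).scheme).Nonempty := by
    refine ⟨ptGen X x, ?_⟩
    rintro ⟨v, hv, hvx⟩
    have hvy : Y.ptSubι y v ≠ y := fun h => hv (by
      rw [show v = ptGen Y y from
        (Y.ptSubι y).isClosedEmbedding.injective (h.trans (ptSubι_ptGen Y y).symm)]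
      exact ptGen_mem W.2.1)
    have hsp := (ptGen_specializes Y y v).map (Y.ptSubι y).continuous
    rw [ptSubι_ptGen] at hsp
    have h1 := codim_lt_of_specializes Y hsp hvy.symm
    have h2 := codim_add_pdim Y y
    have h3 := codim_add_pdim Y (Y.ptSubι y v)
    have hx : φ (Y.ptSubι y v) = x := by
      rw [← Scheme.Hom.comp_apply, ← ptMap_ι φ hy, Scheme.Hom.comp_apply, hvx, ptSubι_ptGen]
    have h4 := pdim_le_of_isClosedMap φ φ.isClosedMap _ (Y.ptSubι y v) rfl
    rw [hx] at h4
    have h5 : (WeilCoh.pdim Y.scheme y : ℤ) = WeilCoh.pdim X.scheme x := by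
      have e1 := dim_ptSub Y y
      have e2 := dim_ptSub X x
      have hd' : (WeilCoh.dim (X.ptSub x).scheme : ℤ) - WeilCoh.dim (Y.ptSub y).scheme = 0 := hd
      rw [e1, e2] at hd'
      omega
    omega
  refine ⟨⟨C.compl, hne, dim_open_ptSub hne⟩, fun v hv => ?_⟩
  by_contra h
  exact hv ⟨v, h, rfl⟩

/-- The preimage of an open of the closure of `x`, as an index. -/
def preIdx (W' : ptIdx X x) : ptIdx Y y :=
  ⟨ptMap φ hy ⁻¹ᵁ W'.1, ⟨ptGen Y y, show ptMap φ hy (ptGen Y y) ∈ W'.1 by
      rw [ptMap_ptGen]; exact ptGen_mem W'.2.1⟩,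
    dim_open_ptSub ⟨ptGen Y y, show ptMap φ hy (ptGen Y y) ∈ W'.1 by
      rw [ptMap_ptGen]; exact ptGen_mem W'.2.1⟩⟩

/-- The restricted morphism. -/
def resMap (W' : ptIdx X x) :
    ((Y.ptSub y).res (preIdx φ hy W').1).scheme ⟶ ((X.ptSub x).res W'.1).scheme :=
  ptMap φ hy ∣_ W'.1

instance [IsProper φ] (W' : ptIdx X x) : IsProper (resMap φ hy W') :=
  IsZariskiLocalAtTarget.restrict (P := @IsProper) (isProper_ptMap φ hy) _

lemma resMap_ι (W' : ptIdx X x) :
    resMap φ hy W' ≫ W'.1.ι ≫ X.ptSubι x = (preIdx φ hy W').1.ι ≫ Y.ptSubι y ≫ φ := by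
  rw [← ptMap_ι φ hy, ← Category.assoc, ← Category.assoc]
  congr 1
  exact morphismRestrict_ι _ _

lemma relCodim_resMap (hd : relCodim (Y.ptSub y).scheme (X.ptSub x).scheme = 0) (W' : ptIdx X x) :
    relCodim ((Y.ptSub y).res (preIdx φ hy W').1).scheme ((X.ptSub x).res W'.1).scheme = 0 := by
  rw [← hd]
  exact congrArg₂ (fun a b : ℕ => (a : ℤ) - b) W'.2.2 (preIdx φ hy W').2.2

variable {R : Type u} [CommRing R] {A : Coefs R} (T : PreTheory V R A) [IsProper φ]

lemma cpt_cls_preIdx (L : T.PtPush φ y x) (M : A.Cat) (i n : ℤ) (W' : ptIdx X x)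
    (b : T.gp ((Y.ptSub y).res (preIdx φ hy W').1) M i n) :
    (L.cpt M i n).hom (cls T (Y.ptSub y) _ M i n (preIdx φ hy W') b) =
      cls T (X.ptSub x) _ M i n W' ((T.push (resMap φ hy W') M i n i n
        (by rw [relCodim_resMap φ hy L.codim_eq]; ring)
        (by rw [relCodim_resMap φ hy L.codim_eq]; ring)).hom b) :=
  congrArg (fun ψ => ψ.hom b) (L.cpt_spec M i n (preIdx φ hy W') W' (resMap φ hy W')
    (resMap_ι φ hy W') _ _)

theorem subsingleton_ptPush : Subsingleton (T.PtPush φ y x) := ⟨fun L L' => by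
  have e : L.cpt = L'.cpt := by
    funext M i n
    refine ModuleCat.hom_ext (LinearMap.ext fun z => ?_)
    obtain ⟨W, a, rfl⟩ := exists_cls T z
    obtain ⟨W', hle⟩ := exists_open_over φ L.maps_pt L.codim_eq W
    rw [← cls_shrink T (U := W) (U' := preIdx φ L.maps_pt W') hle a,
      cpt_cls_preIdx φ L.maps_pt T L, cpt_cls_preIdx φ L.maps_pt T L']
  cases L; cases L'
  simp only at e
  subst e
  rfl⟩

omit [IsProper φ] in
lemma push_bijective_of_isIso {W Z : Obj V} (f : W.scheme ⟶ Z.scheme) [IsProper f] [IsIso f]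
    (h : relCodim W.scheme Z.scheme = 0) (M : A.Cat) (i n : ℤ) :
    Function.Bijective (T.push f M i n i n (by rw [h]; ring) (by rw [h]; ring)).hom := by
  have h' : relCodim Z.scheme W.scheme = 0 := by simp only [relCodim] at h ⊢; omega
  have h0 : ∀ U : Obj V, relCodim U.scheme U.scheme = 0 := fun U => by simp [relCodim]
  refine Function.bijective_iff_has_inverse.2
    ⟨(T.push (inv f) M i n i n (by rw [h']; ring) (by rw [h']; ring)).hom, fun a => ?_, fun a => ?_⟩
  · rw [← comp_apply', T.push_comp f (inv f) M i n i n i n _ _ _ _ (by rw [h0]; ring) (by rw [h0]; ring),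
      push_congr T _ _ (IsIso.hom_inv_id f), T.push_id]
    rfl
  · rw [← comp_apply', T.push_comp (inv f) f M i n i n i n _ _ _ _ (by rw [h0]; ring) (by rw [h0]; ring),
      push_congr T _ _ (IsIso.inv_hom_id f), T.push_id]
    rfl

/-- The datum is bijective when the map of closures is an isomorphism over some open. -/
theorem cpt_bijective (L : T.PtPush φ y x) (O : (X.ptSub x).scheme.Opens)
    (hO : (O : Set (X.ptSub x).scheme).Nonempty) (hiso : IsIso (ptMap φ L.maps_pt ∣_ O))
    (M : A.Cat) (i n : ℤ) : Function.Bijective (L.cpt M i n).hom := by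
  have hy := L.maps_pt
  have hiso' : ∀ W' : ptIdx X x, W'.1 ≤ O → IsIso (resMap φ hy W') := fun W' hle => by
    haveI := hiso
    have hsq := isPullback_morphismRestrict (ptMap φ hy) W'.1
    have hsqO := isPullback_morphismRestrict (ptMap φ hy) O
    have hp : IsPullback (resMap φ hy W')
        ((Y.ptSub y).scheme.homOfLE (show (preIdx φ hy W').1 ≤ ptMap φ hy ⁻¹ᵁ O from fun _ h => hle h))
        ((X.ptSub x).scheme.homOfLE hle) (ptMap φ hy ∣_ O) := by
      refine IsPullback.of_bot (h₃₁ := ptMap φ hy) (v₂₁ := (ptMap φ hy ⁻¹ᵁ O).ι) (v₂₂ := O.ι) ?_ ?_ hsqO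
      · rw [Scheme.homOfLE_ι, Scheme.homOfLE_ι]
        exact hsq
      · rw [← cancel_mono O.ι, Category.assoc, Category.assoc, morphismRestrict_ι, Scheme.homOfLE_ι,
          Scheme.homOfLE_ι_assoc]
        exact morphismRestrict_ι (ptMap φ hy) W'.1
    exact MorphismProperty.of_isPullback (P := MorphismProperty.isomorphisms Scheme.{u}) hp.flip hiso
  refine ⟨(injective_iff_map_eq_zero _).2 fun z hz => ?_, fun z => ?_⟩
  · obtain ⟨W, a, rfl⟩ := exists_cls T z
    obtain ⟨W', hle⟩ := exists_open_over φ hy L.codim_eq W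
    rw [← cls_shrink T (U := W) (U' := preIdx φ hy W') hle a] at hz ⊢
    rw [cpt_cls_preIdx φ hy T L] at hz
    obtain ⟨W₁, h₁, h0⟩ := cls_eq_zero T hz
    have hne : ((W₁.1 ⊓ O : (X.ptSub x).scheme.Opens) : Set (X.ptSub x).scheme).Nonempty :=
      ⟨ptGen X x, ptGen_mem W₁.2.1, ptGen_mem hO⟩
    let W₂ : ptIdx X x := ⟨W₁.1 ⊓ O, hne, dim_open_ptSub hne⟩
    have h₂ : W₂.1 ≤ W'.1 := inf_le_left.trans h₁
    haveI := hiso' W₂ inf_le_right
    have hpre : (preIdx φ hy W₂).1 ≤ (preIdx φ hy W').1 := fun _ h => h₂ h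
    rw [← cls_shrink T (U := preIdx φ hy W') (U' := preIdx φ hy W₂) hpre]
    refine (congrArg (cls T (Y.ptSub y) _ M i n (preIdx φ hy W₂)) ?_).trans (cls_map_zero T _)
    apply (push_bijective_of_isIso T (resMap φ hy W₂) (relCodim_resMap φ hy L.codim_eq W₂) M i n).1
    rw [map_zero]
    have hsq : IsPullback ((Y.ptSub y).scheme.homOfLE hpre) (resMap φ hy W₂) (resMap φ hy W')
        ((X.ptSub x).scheme.homOfLE h₂) := by
      refine IsPullback.of_right (h₁₂ := (preIdx φ hy W').1.ι) (v₁₃ := ptMap φ hy) (h₂₂ := W'.1.ι) ?_ ?_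
        (isPullback_morphismRestrict (ptMap φ hy) W'.1).flip
      · rw [Scheme.homOfLE_ι, Scheme.homOfLE_ι]
        exact (isPullback_morphismRestrict (ptMap φ hy) W₂.1).flip
      · rw [← cancel_mono W'.1.ι, Category.assoc, Category.assoc, Scheme.homOfLE_ι]
        refine Eq.trans ?_ (morphismRestrict_ι (ptMap φ hy) W₂.1).symm
        rw [show resMap φ hy W' ≫ W'.1.ι = (preIdx φ hy W').1.ι ≫ ptMap φ hy from morphismRestrict_ι _ _,
          Scheme.homOfLE_ι_assoc]
        rfl
    have hc := relCodim_resMap φ hy L.codim_eq W'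
    have hc2 := relCodim_resMap φ hy L.codim_eq W₂
    refine (congrArg (fun ψ => ψ.hom ((shrink T (U := W) (U' := preIdx φ hy W') hle).hom a))
      (T.push_pull (resMap φ hy W') (resMap φ hy W₂)
        ((X.ptSub x).resLE h₂ (W₂.2.2.trans W'.2.2.symm))
        ((Y.ptSub y).resLE hpre ((preIdx φ hy W₂).2.2.trans (preIdx φ hy W').2.2.symm))
        hsq M i n i n (by rw [hc]; ring) (by rw [hc]; ring) (by rw [hc2]; ring)
        (by rw [hc2]; ring))).symm.trans ?_
    refine (pull_resLE_resLE T (X := X.ptSub x) (show W₂.1 ≤ W₁.1 from inf_le_left) h₁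
      (W₂.2.2.trans W₁.2.2.symm) (W₁.2.2.trans W'.2.2.symm) M i n _).symm.trans ?_
    exact (congrArg _ h0).trans (map_zero _)
  · obtain ⟨W, b, rfl⟩ := exists_cls T z
    have hne : ((W.1 ⊓ O : (X.ptSub x).scheme.Opens) : Set (X.ptSub x).scheme).Nonempty :=
      ⟨ptGen X x, ptGen_mem W.2.1, ptGen_mem hO⟩
    let W₂ : ptIdx X x := ⟨W.1 ⊓ O, hne, dim_open_ptSub hne⟩
    haveI := hiso' W₂ inf_le_right
    obtain ⟨a, ha⟩ := (push_bijective_of_isIso T (resMap φ hy W₂)
      (relCodim_resMap φ hy L.codim_eq W₂) M i n).2 ((shrink T (U := W) (U' := W₂) inf_le_left).hom b)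
    refine ⟨cls T (Y.ptSub y) _ M i n (preIdx φ hy W₂) a, ?_⟩
    rw [cpt_cls_preIdx φ hy T L, ← cls_shrink T (U := W) (U' := W₂) inf_le_left b]
    exact congrArg _ ha

end PtMap

/-- A normalisation which is locally of finite type is an isomorphism over some open. -/
lemma exists_isIso_normalization {X₀ : Scheme.{u}} [IsIntegral X₀]
    [QuasiCompact (X₀.fromSpecStalk (genericPoint X₀))]
    [QuasiSeparated (X₀.fromSpecStalk (genericPoint X₀))]
    [LocallyOfFiniteType (X₀.fromSpecStalk (genericPoint X₀)).fromNormalization] :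
    ∃ U : X₀.Opens, genericPoint X₀ ∈ U ∧
      IsIso ((X₀.fromSpecStalk (genericPoint X₀)).fromNormalization ∣_ U) := by
  set g := X₀.fromSpecStalk (genericPoint X₀)
  set ν := g.fromNormalization
  obtain ⟨U, hU, s, hs₁, hs₂⟩ := spread_out_of_isGermInjective' (𝟙 X₀) ν g.toNormalization
    (by rw [Scheme.Hom.toNormalization_fromNormalization, Category.comp_id])
  rw [Category.comp_id] at hs₂
  have hrange : Set.range s ⊆ (ν ⁻¹ᵁ U : Set g.normalization) := by
    rintro _ ⟨z, rfl⟩
    change ν (s z) ∈ U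
    rw [← Scheme.Hom.comp_apply, hs₂]
    exact z.2
  let s' : (U : Scheme.{u}) ⟶ (ν ⁻¹ᵁ U : Scheme.{u}) :=
    IsOpenImmersion.lift (ν ⁻¹ᵁ U).ι s (by rw [Scheme.Opens.range_ι]; exact hrange)
  have hfac : s' ≫ (ν ⁻¹ᵁ U).ι = s := IsOpenImmersion.lift_fac _ _ _
  have hsec : s' ≫ ν ∣_ U = 𝟙 _ := by
    rw [← cancel_mono U.ι, Category.assoc, morphismRestrict_ι, reassoc_of% hfac, hs₂, Category.id_comp]
  haveI : IsClosedImmersion (s' ≫ ν ∣_ U) := by rw [hsec]; infer_instance
  haveI : IsClosedImmersion s' := IsClosedImmersion.of_comp _ (ν ∣_ U)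
  haveI : IsDomain (X₀.presheaf.stalk (genericPoint X₀)) :=
    inferInstanceAs (IsDomain X₀.functionField)
  haveI : IsIntegral g.normalization := inferInstance
  haveI : Surjective s' := ⟨fun z => by
    have hsub : Subsingleton ↥(Spec (X₀.presheaf.stalk (genericPoint X₀))) :=
      inferInstanceAs (Subsingleton (PrimeSpectrum X₀.functionField))
    let p : ↥(Spec (X₀.presheaf.stalk (genericPoint X₀))) := IsLocalRing.closedPoint _
    have hdense : g.toNormalization p ⤳ (ν ⁻¹ᵁ U).ι z := by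
      refine specializes_iff_mem_closure.2 ?_
      have h := g.toNormalization.denseRange
      have e : Set.range g.toNormalization = {g.toNormalization p} :=
        Set.eq_singleton_iff_unique_mem.2 ⟨⟨p, rfl⟩, by
          rintro _ ⟨q, rfl⟩
          rw [Subsingleton.elim q p]⟩
      have h' := h ((ν ⁻¹ᵁ U).ι z)
      rwa [e] at h'
    have hp : g.toNormalization p = (ν ⁻¹ᵁ U).ι (s' (U.fromSpecStalkOfMem _ hU p)) := by
      rw [← Scheme.Hom.comp_apply, ← Scheme.Hom.comp_apply, hfac, ← hs₁]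
    rw [hp, (ν ⁻¹ᵁ U).ι.isOpenEmbedding.isInducing.specializes_iff] at hdense
    exact hdense.mem_closed s'.isClosedEmbedding.isClosed_range ⟨_, rfl⟩⟩
  haveI : Nonempty ↥(ν ⁻¹ᵁ U : Scheme.{u}) :=
    ⟨s' ⟨genericPoint X₀, hU⟩⟩
  haveI : IsReduced (ν ⁻¹ᵁ U : Scheme.{u}) := inferInstance
  haveI := isIso_of_isClosedImmersion_of_surjective s'
  refine ⟨U, hU, ?_⟩
  have e : ν ∣_ U = inv s' := (IsIso.eq_inv_of_hom_inv_id hsec)
  rw [e]
  infer_instance

end BMLib
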