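import Groth.Agent.BMLib.Morph
import Groth.Prelude.Def_BMCoh3

/-!
# Components of residue and push-forward data on representatives
-/

universe u

noncomputable section

open AlgebraicGeometry CategoryTheory CategoryTheory.Limits TopologicalSpace Opposite BMCoh

namespace BMLib

variable {V : ObjectProperty Scheme.{u}} [IsConstructible V] {R : Type u} [CommRing R] {A : Coefs R}
variable (T : PreTheory V R A) {X : Obj V}

lemma cls_map_zero {P : X.scheme.Opens → Prop} {M : A.Cat} {i n : ℤ} (U : Idx X P) :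
    cls T X P M i n U 0 = 0 := map_zero _

lemma cls_sum {P : X.scheme.Opens → Prop} {M : A.Cat} {i n : ℤ} (U : Idx X P) {κ : Type*}
    (t : Finset κ) (a : κ → T.gp (X.res U.1) M i n) :
    cls T X P M i n U (∑ k ∈ t, a k) = ∑ k ∈ t, cls T X P M i n U (a k) := map_sum _ a t

/-- Restrictions between opens compose. -/
lemma pull_resLE_resLE {U₁ U₂ U₃ : X.scheme.Opens} (h₁ : U₁ ≤ U₂) (h₂ : U₂ ≤ U₃)
    (d₁ : WeilCoh.dim (U₁ : Scheme.{u}) = WeilCoh.dim (U₂ : Scheme.{u}))
    (d₂ : WeilCoh.dim (U₂ : Scheme.{u}) = WeilCoh.dim (U₃ : Scheme.{u}))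
    (M : A.Cat) (i n : ℤ) (a : T.gp (X.res U₃) M i n) :
    (T.pull (X.resLE h₁ d₁) M i n).hom ((T.pull (X.resLE h₂ d₂) M i n).hom a) =
      (T.pull (X.resLE (h₁.trans h₂) (d₁.trans d₂)) M i n).hom a := by
  rw [← comp_apply', ← pull_comp T]
  congr 3
  exact BMCoh.Hom.ext (Scheme.homOfLE_homOfLE _ h₁ h₂)

lemma containsFj_finsetInf {κ : Type*} {c : ℕ} (t : Finset κ) (f : κ → X.scheme.Opens)
    (h : ∀ k ∈ t, ContainsFj X c (f k)) : ContainsFj X c (t.inf f) := by
  classical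
  induction t using Finset.induction with
  | empty => exact fun _ _ => trivial
  | insert k t hk ih =>
    rw [Finset.inf_insert]
    exact containsFj_inter (h k (Finset.mem_insert_self _ _))
      (ih fun l hl => h l (Finset.mem_insert_of_mem hl))

section Points

variable (X) (M : A.Cat) (i n : ℤ) (x : X.scheme)

/-- The class in the group of `x` of an element on a piece. -/
abbrev pcls (Y : X.scheme.Opens) (hx : x ∈ Y) (a : T.gp (piece X x Y hx) M i n) :
    T.ptGp X x M i n :=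
  cls T (X.ptSub x) _ M i n (pieceIdx X x Y hx) a

lemma pcls_shrink {Y Y' : X.scheme.Opens} (hx : x ∈ Y) (h : Y' ≤ Y) (hx' : x ∈ Y')
    (a : T.gp (piece X x Y hx) M i n) :
    pcls T X M i n x Y' hx' ((T.pull (pieceLE X x hx h hx') M i n).hom a) = pcls T X M i n x Y hx a :=
  cls_shrink T (X := X.ptSub x) (U := pieceIdx X x Y hx) (U' := pieceIdx X x Y' hx')
    (fun _ hw => h hw) a

/-- Pieces are cofinal among the neighbourhoods of the generic point of the closure. -/
lemma exists_piece_le {c : ℕ} (hc : WeilCoh.codim X.scheme x = c) (W : ptIdx X x) :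
    ∃ Y, ContainsFj X c Y ∧ ∀ Y' ≤ Y, ∀ hx', (pieceIdx X x Y' hx').1 ≤ W.1 := by
  let C : Closeds X.scheme := ⟨X.ptSubι x '' (W.1 : Set (X.ptSub x).scheme)ᶜ,
    (X.ptSubι x).isClosedEmbedding.isClosedMap _ W.1.isOpen.isClosed_compl⟩
  refine ⟨C.compl, containsFj_compl C ?_, fun Y' hle hx' w hw => ?_⟩
  · rintro y ⟨w, hw, rfl⟩
    rw [← hc]
    have hsp := (ptGen_specializes X x w).map (X.ptSubι x).continuous
    rw [ptSubι_ptGen] at hsp
    refine codim_lt_of_specializes X hsp fun h => hw ?_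
    rw [show w = ptGen X x from
      (X.ptSubι x).isClosedEmbedding.injective (h.symm.trans (ptSubι_ptGen X x).symm)]
    exact ptGen_mem W.2.1
  · by_contra h
    exact hle hw ⟨w, h, rfl⟩

lemma exists_pcls {c : ℕ} (hc : WeilCoh.codim X.scheme x = c) (z : T.ptGp X x M i n) :
    ∃ Y, ∃ hY : ContainsFj X c Y, ∃ a, pcls T X M i n x Y (hY x hc.le) a = z := by
  obtain ⟨W, b, rfl⟩ := exists_cls T z
  obtain ⟨Y, hY, hle⟩ := exists_piece_le X x hc W
  exact ⟨Y, hY, (shrink T (hle Y le_rfl (hY x hc.le))).hom b, cls_shrink T _ b⟩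

lemma pcls_eq_zero {c : ℕ} (hc : WeilCoh.codim X.scheme x = c) {Y : X.scheme.Opens} {hx : x ∈ Y}
    {a : T.gp (piece X x Y hx) M i n} (h : pcls T X M i n x Y hx a = 0) :
    ∃ Y₁, ContainsFj X c Y₁ ∧ ∀ Y' (h' : Y' ≤ Y), Y' ≤ Y₁ → ∀ hx',
      (T.pull (pieceLE X x hx h' hx') M i n).hom a = 0 := by
  obtain ⟨W, hle, h0⟩ := cls_eq_zero T h
  obtain ⟨Y₁, hY₁, hW⟩ := exists_piece_le X x hc W
  refine ⟨Y₁, hY₁, fun Y' h' h₁ hx' => ?_⟩
  have e := pull_resLE_resLE T (X := X.ptSub x) (hW Y' h₁ hx') hle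
    ((pieceIdx X x Y' hx').2.2.trans W.2.2.symm) (W.2.2.trans (pieceIdx X x Y hx).2.2.symm) M i n a
  exact e.symm.trans ((congrArg _ h0).trans (map_zero _))

end Points

section Push

variable {c : ℕ}

/-- An open containing `F_c` as an index. -/
abbrev fIdx {Y : X.scheme.Opens} (hY : ContainsFj X c Y) : Idx X (ContainsFj X c) :=
  ⟨Y, hY, dim_opens_of_containsFj hY⟩

lemma push_congr {W Z : Obj V} (f f' : W.scheme ⟶ Z.scheme) [IsProper f] [IsProper f'] (e : f = f')
    (M : A.Cat) (i n i' n' : ℤ) (hi : i' = i + 2 * relCodim W.scheme Z.scheme)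
    (hn : n' = n + relCodim W.scheme Z.scheme) :
    T.push f M i n i' n' hi hn = T.push f' M i n i' n' hi hn := by
  subst e; rfl

lemma cpt_pcls (P : T.PushData X c) (x : X.cdPt c) (M : A.Cat) (i n i' n' : ℤ)
    (hi : i' = i + 2 * (c : ℤ)) (hn : n' = n + (c : ℤ)) {Y : X.scheme.Opens}
    (hY : ContainsFj X c Y) (a : T.gp (piece X x.1 Y (hY x.1 x.2.le)) M i n) :
    (P.cpt x M i n i' n' hi hn).hom (pcls T X M i n x.1 Y (hY x.1 x.2.le) a) =
      cls T X _ M i' n' (fIdx hY) ((T.push (pieceι X x.1 Y (hY x.1 x.2.le)) M i n i' n'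
        (by rw [relCodim_piece X x.1 Y _ x.2 (dim_opens_of_containsFj hY)]; exact hi)
        (by rw [relCodim_piece X x.1 Y _ x.2 (dim_opens_of_containsFj hY)]; exact hn)).hom a) :=
  congrArg (fun φ => φ.hom a) (P.cpt_spec x M i n i' n' hi hn (fIdx hY) (pieceIdx X x.1 Y _)
    (pieceι X x.1 Y _) (pieceι_ι X x.1 Y _) _ _)

lemma pull_push_piece {Y Y' : X.scheme.Opens} (x : X.scheme) (hx : x ∈ Y) (h : Y' ≤ Y) (hx' : x ∈ Y')
    (hd : WeilCoh.dim (Y' : Scheme.{u}) = WeilCoh.dim (Y : Scheme.{u})) (M : A.Cat) (i n i' n' : ℤ)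
    (hi : i' = i + 2 * relCodim (piece X x Y hx).scheme (X.res Y).scheme)
    (hn : n' = n + relCodim (piece X x Y hx).scheme (X.res Y).scheme)
    (hi' : i' = i + 2 * relCodim (piece X x Y' hx').scheme (X.res Y').scheme)
    (hn' : n' = n + relCodim (piece X x Y' hx').scheme (X.res Y').scheme)
    (a : T.gp (piece X x Y hx) M i n) :
    (T.pull (X.resLE h hd) M i' n').hom ((T.push (pieceι X x Y hx) M i n i' n' hi hn).hom a) =
      (T.push (pieceι X x Y' hx') M i n i' n' hi' hn').hom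
        ((T.pull (pieceLE X x hx h hx') M i n).hom a) :=
  congrArg (fun φ => φ.hom a) (T.push_pull (pieceι X x Y hx) (pieceι X x Y' hx') (X.resLE h hd)
    (pieceLE X x hx h hx') (isPullback_pieceLE X x hx h hx') M i n i' n' hi hn hi' hn')

open DirectSum in
lemma tot_eq_sum (P : T.PushData X c) (M : A.Cat) (i n i' n' : ℤ) (hi : i' = i + 2 * (c : ℤ))
    (hn : n' = n + (c : ℤ)) (ζ : T.ptSum X c M i n) (s : Finset (X.cdPt c))
    (h : ∀ x ∉ s, ζ x = 0) :
    (P.tot M i n i' n' hi hn).hom ζ = ∑ x ∈ s, (P.cpt x M i n i' n' hi hn).hom (ζ x) := by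
  classical
  have e : ζ = ∑ x ∈ s, DirectSum.lof R (X.cdPt c) (fun y : X.cdPt c => T.ptGp X y.1 M i n) x (ζ x) := by
    refine DFinsupp.ext fun y => ?_
    rw [DFinsupp.finsetSum_apply]
    by_cases hy : y ∈ s
    · rw [Finset.sum_eq_single_of_mem y hy]
      · exact (DFinsupp.single_eq_same (β := fun z : X.cdPt c => T.ptGp X z.1 M i n)).symm
      · exact fun b _ hb =>
          DFinsupp.single_eq_of_ne (β := fun z : X.cdPt c => T.ptGp X z.1 M i n) (Ne.symm hb)
    · rw [h y hy]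
      exact (Finset.sum_eq_zero fun b hb => DFinsupp.single_eq_of_ne
        (β := fun z : X.cdPt c => T.ptGp X z.1 M i n) fun (e : y = b) => hy (e ▸ hb)).symm
  conv_lhs => rw [e]
  rw [map_sum]
  exact Finset.sum_congr rfl fun x _ => P.tot_lof M i n i' n' hi hn x (ζ x)

end Push

section Res

variable {j : ℕ} (Q : T.ResData X j) (M : A.Cat) (i n i' n' : ℤ)
  (hi : i' = i + 1 - 2 * ((j : ℤ) + 1)) (hn : n' = n - ((j : ℤ) + 1))

/-- The residue at a point of a stratum. -/
lemma cpt_cls (S : Strat X j) (x : X.cdPt (j + 1)) (hx : x ∈ S.s)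
    (a : T.gp (X.res S.opn) M i n) :
    (Q.cpt x M i n i' n' hi hn).hom (cls T X _ M i n S.opnIdx a) =
      pcls T X M i' n' x.1 S.Y (S.hmem x hx) ((T.pull (S.g x hx) M i' n').hom
        ((T.res S.D M i n i' n' (by rw [S.codim_D]; exact hi) (by rw [S.codim_D]; exact hn)).hom a)) := by
  have h := congrArg (fun φ => φ.hom a) (Q.cpt_spec x M i n i' n' hi hn
    (X.resι S.Y S.dimY) S.D (pieceIdx X x.1 S.Y (S.hmem x hx)) (S.g x hx)
    (by
      change (S.g x hx).hom ≫ S.D.i ≫ S.Y.ι = _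
      rw [← Category.assoc, Strat.g_i, pieceι_ι])
    S.opnIdx (𝟙 _)
    (by
      refine (Category.id_comp _).trans ?_
      exact Scheme.homOfLE_ι _ S.opn_le)
    (by rw [S.codim_D]; exact hi) (by rw [S.codim_D]; exact hn))
  have e : (T.pull (𝟙 (X.res S.opnIdx.1)) M i n).hom a = a := by
    rw [pull_id T]; rfl
  exact (congrArg (fun b => (Q.cpt x M i n i' n' hi hn).hom (cls T X _ M i n S.opnIdx b)) e).symm.trans h

/-- The residue of a class defined at the point vanishes. -/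
lemma cpt_cls_eq_zero (x : X.cdPt (j + 1)) (U : Idx X (ContainsFj X j)) (hx : x.1 ∈ U.1)
    (a : T.gp (X.res U.1) M i n) :
    (Q.cpt x M i n i' n' hi hn).hom (cls T X _ M i n U a) = 0 := by
  let S : Strat X j := ⟨{x}, U.1, U.2.1, fun y hy => by rwa [Finset.mem_singleton.1 hy],
    fun y hy z hz hne => absurd ((Finset.mem_singleton.1 hy).trans (Finset.mem_singleton.1 hz).symm) hne,
    Finset.singleton_nonempty x⟩
  refine (congrArg (fun z => (Q.cpt x M i n i' n' hi hn).hom z)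
    (cls_shrink T (U := U) (U' := S.opnIdx) S.opn_le a)).symm.trans ?_
  refine (cpt_cls T Q M i n i' n' hi hn S x (Finset.mem_singleton_self x) _).trans ?_
  have h0 : (T.res S.D M i n i' n' (by rw [S.codim_D]; exact hi) (by rw [S.codim_D]; exact hn)).hom
      ((T.pull S.D.j M i n).hom a) = 0 :=
    (T.exact_pull_res S.D M i n i' n' _ _).apply_apply_eq_zero a
  refine (congrArg (fun b => pcls T X M i' n' x.1 S.Y _ ((T.pull (S.g x _) M i' n').hom b)) h0).trans ?_
  rw [map_zero]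
  exact map_zero _

/-- The residues of a class on `U` are supported on the points of a cover of the complement. -/
lemma cpt_eq_zero_of_cover {U : Idx X (ContainsFj X j)} {s : Finset (X.cdPt (j + 1))}
    {Y : X.scheme.Opens} (hY : ContainsFj X (j + 1) Y)
    (hcov : ∀ y ∈ Y, y ∈ U.1 ∨ ∃ z ∈ s, y ∈ closure ({z.1} : Set X.scheme))
    (a : T.gp (X.res U.1) M i n) (x : X.cdPt (j + 1)) (hx : x ∉ s) :
    (Q.cpt x M i n i' n' hi hn).hom (cls T X _ M i n U a) = 0 := by
  rcases hcov x.1 (hY x.1 x.2.le) with h | ⟨z, hz, h⟩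
  · exact cpt_cls_eq_zero T Q M i n i' n' hi hn x U h a
  · exact absurd (Subtype.ext (eq_of_mem_closure h (by rw [x.2, z.2])) ▸ hz) hx

end Res

namespace Strat

variable {j : ℕ} (S : Strat X j)

/-- Pushing a glued class to the open is the sum of the pushes of its parts. -/
lemma push_glue (M : A.Cat) (a b a' b' : ℤ) (hi : a' = a + 2 * relCodim S.D.Z.scheme (X.res S.Y).scheme)
    (hn : b' = b + relCodim S.D.Z.scheme (X.res S.Y).scheme) (w : ∀ x hx, T.gp (S.W x hx) M a b) :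
    (T.push S.D.i M a b a' b' hi hn).hom (S.glue T w) = ∑ k ∈ S.s.attach,
      (T.push (pieceι X k.1.1 S.Y (S.hmem k.1 k.2)) M a b a' b'
        (by rw [relCodim_piece X k.1.1 S.Y _ k.1.2 S.dimY]; rw [show relCodim S.D.Z.scheme
              (X.res S.Y).scheme = _ from S.codim_D] at hi; push_cast; exact hi)
        (by rw [relCodim_piece X k.1.1 S.Y _ k.1.2 S.dimY]; rw [show relCodim S.D.Z.scheme
              (X.res S.Y).scheme = _ from S.codim_D] at hn; push_cast; exact hn)).hom (w k.1 k.2) := by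
  rw [glue, map_sum]
  refine Finset.sum_congr rfl fun k _ => ?_
  haveI : IsProper ((S.g k.1 k.2).hom ≫ S.D.i) := inferInstance
  have hc := relCodim_hom (S.g k.1 k.2)
  have hc' : relCodim (S.W k.1 k.2).scheme (X.res S.Y).scheme =
      relCodim S.D.Z.scheme (X.res S.Y).scheme := by
    simp only [relCodim, (S.g k.1 k.2).dim_eq]
  rw [← comp_apply', pushP, T.push_comp (S.g k.1 k.2).hom S.D.i M a b a b a' b' (by rw [hc]; ring)
    (by rw [hc]; ring) hi hn (by rw [hc']; exact hi) (by rw [hc']; exact hn)]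
  exact congrArg (fun φ => φ.hom (w k.1 k.2)) (push_congr T _ _ (S.g_i k.1 k.2) M a b a' b' _ _)

end Strat

end BMLib
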