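import Groth.Agent.BMLib.Pieces
import Mathlib.AlgebraicGeometry.Restrict

/-!
# Pieces of closures of points and the decompositions they cut out
-/

universe u

noncomputable section

open AlgebraicGeometry CategoryTheory CategoryTheory.Limits TopologicalSpace Opposite BMCoh

namespace BMLib

variable {V : ObjectProperty Scheme.{u}} [IsConstructible V] (X : Obj V)

section Piece

variable (x : X.scheme) (Y : X.scheme.Opens) (hx : x ∈ Y)

/-- The closure of `x` inside `Y`, as a member of the index family of `x`. -/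
abbrev pieceIdx : ptIdx X x :=
  ⟨X.ptSubι x ⁻¹ᵁ Y, ⟨ptGen X x, show X.ptSubι x (ptGen X x) ∈ Y by rwa [ptSubι_ptGen]⟩,
    dim_open_ptSub ⟨ptGen X x, show X.ptSubι x (ptGen X x) ∈ Y by rwa [ptSubι_ptGen]⟩⟩

/-- The closure of `x` inside `Y`, as an object. -/
abbrev piece : Obj V := (X.ptSub x).res (pieceIdx X x Y hx).1

/-- Its closed immersion into `Y`. -/
def pieceι : (piece X x Y hx).scheme ⟶ (X.res Y).scheme := X.ptSubι x ∣_ Y

instance : IsClosedImmersion (pieceι X x Y hx) :=
  IsZariskiLocalAtTarget.restrict (P := @IsClosedImmersion) inferInstance Y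

lemma pieceι_ι : pieceι X x Y hx ≫ Y.ι = (pieceIdx X x Y hx).1.ι ≫ X.ptSubι x :=
  morphismRestrict_ι _ _

lemma range_pieceι : Set.range (pieceι X x Y hx) = Y.ι ⁻¹' closure {x} := by
  ext z
  constructor
  · rintro ⟨w, rfl⟩
    change Y.ι (pieceι X x Y hx w) ∈ closure {x}
    rw [← Scheme.Hom.comp_apply, pieceι_ι, Scheme.Hom.comp_apply, ← range_ptSubι]
    exact ⟨_, rfl⟩
  · intro hz
    rw [Set.mem_preimage, ← range_ptSubι] at hz
    obtain ⟨w, hw⟩ := hz
    have hwY : w ∈ X.ptSubι x ⁻¹ᵁ Y := by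
      change X.ptSubι x w ∈ Y; rw [hw]; exact z.2
    refine ⟨⟨w, hwY⟩, Y.ι.isOpenEmbedding.injective ?_⟩
    have h := congr($(pieceι_ι X x Y hx) (⟨w, hwY⟩ : (piece X x Y hx).scheme))
    exact h.trans hw

lemma nonempty_piece : Nonempty ↥(piece X x Y hx).scheme :=
  ⟨⟨ptGen X x, show X.ptSubι x (ptGen X x) ∈ Y by rwa [ptSubι_ptGen]⟩⟩

lemma dim_piece : WeilCoh.dim (piece X x Y hx).scheme = WeilCoh.pdim X.scheme x :=
  (pieceIdx X x Y hx).2.2.trans (dim_ptSub X x)

lemma isReduced_piece : IsReduced (piece X x Y hx).scheme := by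
  haveI : IsReduced (X.ptSub x).scheme := isReduced_vanishingIdeal _
  change IsReduced ((pieceIdx X x Y hx).1 : Scheme.{u})
  infer_instance

lemma relCodim_piece {c : ℕ} (hc : WeilCoh.codim X.scheme x = c)
    (hd : WeilCoh.dim (Y : Scheme.{u}) = WeilCoh.dim X.scheme) :
    relCodim (piece X x Y hx).scheme (X.res Y).scheme = c := by
  have := codim_add_pdim X x
  rw [relCodim, dim_piece, Obj.res_scheme, hd]
  omega

variable {Y} {Y' : X.scheme.Opens} (h : Y' ≤ Y) (hx' : x ∈ Y')

/-- Pieces grow with the open. -/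
def pieceLE : piece X x Y' hx' ⟶ piece X x Y hx :=
  (X.ptSub x).resLE (fun _ hw => h hw)
    ((pieceIdx X x Y' hx').2.2.trans (pieceIdx X x Y hx).2.2.symm)

lemma pieceLE_ι : (pieceLE X x hx h hx').hom ≫ pieceι X x Y hx =
    pieceι X x Y' hx' ≫ X.scheme.homOfLE h := by
  rw [← cancel_mono Y.ι, Category.assoc, Category.assoc, Scheme.homOfLE_ι, pieceι_ι, pieceι_ι,
    ← Category.assoc]
  congr 1
  exact Scheme.homOfLE_ι _ (show (pieceIdx X x Y' hx').1 ≤ (pieceIdx X x Y hx).1 from fun _ hw => h hw)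

lemma isPullback_pieceLE :
    IsPullback (pieceLE X x hx h hx').hom (pieceι X x Y' hx') (pieceι X x Y hx)
      (X.scheme.homOfLE h) := by
  refine IsPullback.of_right (h₁₂ := (pieceIdx X x Y hx).1.ι) (v₁₃ := X.ptSubι x) (h₂₂ := Y.ι)
    ?_ (pieceLE_ι X x hx h hx') (isPullback_morphismRestrict (X.ptSubι x) Y).flip
  have e : (pieceLE X x hx h hx').hom ≫ (pieceIdx X x Y hx).1.ι = (pieceIdx X x Y' hx').1.ι :=
    Scheme.homOfLE_ι _ (show (pieceIdx X x Y' hx').1 ≤ (pieceIdx X x Y hx).1 from fun _ hw => h hw)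
  rw [e, Scheme.homOfLE_ι]
  exact (isPullback_morphismRestrict (X.ptSubι x) Y').flip

end Piece

section Strat

attribute [local instance] Classical.propDecidable

variable {X} {j : ℕ}

/-- The union of the closures of the points of `s`. -/
def closures (s : Finset (X.cdPt (j + 1))) : Closeds X.scheme :=
  s.sup fun x => ⟨closure {x.1}, isClosed_closure⟩

omit [IsConstructible V] in
lemma mem_closures {s : Finset (X.cdPt (j + 1))} {y : X.scheme} :
    y ∈ closures s ↔ ∃ x ∈ s, y ∈ closure ({x.1} : Set X.scheme) :=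
  mem_finsetSup _ _ _

lemma lt_codim_of_mem_closures {s : Finset (X.cdPt (j + 1))} {y : X.scheme} (h : y ∈ closures s) :
    j < WeilCoh.codim X.scheme y := by
  obtain ⟨x, _, hy⟩ := mem_closures.1 h
  have := codim_le_of_mem_closure hy
  rw [x.2] at this
  omega

/-- Finitely many points of codimension `j + 1` in general position inside an open. -/
structure Strat (X : Obj V) (j : ℕ) where
  /-- The points. -/
  s : Finset (X.cdPt (j + 1))
  /-- The open. -/
  Y : X.scheme.Opens
  hY : ContainsFj X j Y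
  hmem : ∀ x ∈ s, x.1 ∈ Y
  good : Good X s Y
  ne : s.Nonempty

namespace Strat

variable (S : Strat X j)

lemma dimY : WeilCoh.dim (S.Y : Scheme.{u}) = WeilCoh.dim X.scheme :=
  dim_opens_of_containsFj S.hY

/-- `Y` as an index. -/
abbrev idx : Idx X (ContainsFj X j) := ⟨S.Y, S.hY, S.dimY⟩

/-- The open part. -/
abbrev opn : X.scheme.Opens := S.Y ⊓ (closures S.s).compl

lemma containsFj_opn : ContainsFj X j S.opn :=
  containsFj_inter S.hY (containsFj_compl _ fun _ hy => lt_codim_of_mem_closures hy)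

/-- The open part as an index. -/
abbrev opnIdx : Idx X (ContainsFj X j) :=
  ⟨S.opn, S.containsFj_opn, dim_opens_of_containsFj S.containsFj_opn⟩

/-- The closures inside `Y`. -/
def cls : Closeds (S.Y : Scheme.{u}) :=
  ⟨S.Y.ι ⁻¹' (closures S.s : Set X.scheme), (closures S.s).isClosed.preimage S.Y.ι.continuous⟩

/-- The closed part. -/
abbrev Z : Obj V :=
  ⟨(Scheme.IdealSheafData.vanishingIdeal S.cls).subscheme,
    IsConstructible.of_isClosedImmersion (Scheme.IdealSheafData.vanishingIdeal S.cls).subschemeι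
      (h := inferInstance) (X.res S.Y).mem⟩

/-- The closed part in `Y`. -/
def Zι : S.Z.scheme ⟶ (X.res S.Y).scheme :=
  (Scheme.IdealSheafData.vanishingIdeal S.cls).subschemeι

instance : IsClosedImmersion S.Zι :=
  inferInstanceAs (IsClosedImmersion (Scheme.IdealSheafData.vanishingIdeal S.cls).subschemeι)

lemma range_Zι : Set.range S.Zι = S.Y.ι ⁻¹' (closures S.s : Set X.scheme) := by
  refine ((Scheme.IdealSheafData.vanishingIdeal S.cls).range_subschemeι).trans ?_
  rw [Scheme.IdealSheafData.coe_support_vanishingIdeal]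
  rfl

lemma ker_Zι : S.Zι.ker = Scheme.IdealSheafData.vanishingIdeal S.cls :=
  Scheme.IdealSheafData.ker_subschemeι _

omit [IsConstructible V] in
lemma opn_le : S.opn ≤ S.Y := inf_le_left

/-- The decomposition of `Y` into the closures of the points and the rest. -/
@[reducible] def D : Decomp (X.res S.Y) where
  Z := S.Z
  U := X.res S.opn
  i := S.Zι
  closedImm := inferInstance
  j := X.resLE S.opn_le ((dim_opens_of_containsFj S.containsFj_opn).trans S.dimY.symm)
  range_eq := by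
    rw [range_Zι]
    ext z
    constructor
    · rintro ⟨w, rfl⟩ hz
      have e : S.Y.ι ((X.scheme.homOfLE S.opn_le) w) = S.opn.ι w :=
        congr($(X.scheme.homOfLE_ι S.opn_le) w)
      have : S.Y.ι ((X.scheme.homOfLE S.opn_le) w) ∈ (closures S.s : Set X.scheme) := hz
      rw [e] at this
      exact w.2.2 this
    · intro hz
      refine ⟨⟨z.1, z.2, hz⟩, S.Y.ι.isOpenEmbedding.injective ?_⟩
      exact congr($(X.scheme.homOfLE_ι S.opn_le) (⟨z.1, z.2, hz⟩ : (S.opn : Scheme.{u})))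

lemma isReduced_Z : IsReduced S.D.Z.scheme := isReduced_vanishingIdeal _

lemma range_i : Set.range S.D.i = S.Y.ι ⁻¹' (closures S.s : Set X.scheme) := S.range_Zι

lemma pdim_Z (z : S.D.Z.scheme) :
    WeilCoh.pdim S.D.Z.scheme z = WeilCoh.pdim X.scheme (S.Y.ι (S.D.i z)) := by
  rw [← pdim_map S.D.i, ← pdim_opens]

lemma dim_Z : (WeilCoh.dim S.D.Z.scheme : ℤ) = WeilCoh.dim X.scheme - ((j : ℤ) + 1) := by
  obtain ⟨x, hx⟩ := S.ne
  obtain ⟨z, hz⟩ : (⟨x.1, S.hmem x hx⟩ : (X.res S.Y).scheme) ∈ Set.range S.D.i := by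
    rw [range_i]
    exact mem_closures.2 ⟨x, hx, subset_closure rfl⟩
  have h0 : WeilCoh.pdim S.D.Z.scheme z = WeilCoh.pdim X.scheme x.1 := by
    rw [pdim_Z, hz]; rfl
  have hle : ∀ w, WeilCoh.pdim S.D.Z.scheme w ≤ WeilCoh.pdim X.scheme x.1 := fun w => by
    have hw : S.D.i w ∈ Set.range S.D.i := ⟨w, rfl⟩
    rw [range_i] at hw
    have h1 := lt_codim_of_mem_closures (s := S.s) hw
    have h2 := codim_add_pdim X (S.Y.ι (S.D.i w))
    have h3 := codim_add_pdim X x.1
    rw [x.2] at h3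
    rw [pdim_Z]
    omega
  rw [dim_eq_of_forall_pdim_le _ hle h0]
  have h3 := codim_add_pdim X x.1
  rw [x.2] at h3
  omega

lemma codim_D : S.D.codim = (j : ℤ) + 1 := by
  rw [Decomp.codim, relCodim, dim_Z, Obj.res_scheme, S.dimY]
  ring

variable (x : X.cdPt (j + 1)) (hx : x ∈ S.s)

/-- The piece of one of the points. -/
abbrev W : Obj V := piece X x.1 S.Y (S.hmem x hx)

lemma ker_le : S.D.i.ker ≤
    (pieceι X x.1 S.Y (S.hmem x hx)).ker := by
  haveI := isReduced_piece X x.1 S.Y (S.hmem x hx)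
  rw [show S.D.i.ker = _ from S.ker_Zι]
  refine vanishingIdeal_le_ker _ _ ?_
  rw [range_pieceι]
  exact fun z hz => mem_closures.2 ⟨x, hx, hz⟩

/-- The piece of `x` mapped into the closed part. -/
def gHom : (S.W x hx).scheme ⟶ S.D.Z.scheme :=
  IsClosedImmersion.lift S.D.i (pieceι X x.1 S.Y (S.hmem x hx)) (S.ker_le x hx)

lemma gHom_i : S.gHom x hx ≫ S.D.i = pieceι X x.1 S.Y (S.hmem x hx) :=
  IsClosedImmersion.lift_fac _ _ _

instance : IsClosedImmersion (S.gHom x hx) := by
  haveI : IsClosedImmersion (S.gHom x hx ≫ S.D.i) := by rw [gHom_i]; infer_instance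
  exact IsClosedImmersion.of_comp _ S.D.i

lemma range_gHom : Set.range (S.gHom x hx) = S.D.i ⁻¹' (S.Y.ι ⁻¹' closure {x.1}) := by
  rw [← range_pieceι, ← gHom_i, Scheme.Hom.comp_base, TopCat.coe_comp, Set.range_comp]
  exact (Set.preimage_image_eq _ S.D.i.isClosedEmbedding.injective).symm

/-- The complement of the other pieces. -/
def others : S.D.Z.scheme.Opens :=
  ⟨(S.D.i ⁻¹' (S.Y.ι ⁻¹' (closures (S.s.filter (· ≠ x)) : Set X.scheme)))ᶜ,
    (((closures _).isClosed.preimage S.Y.ι.continuous).preimage S.D.i.continuous).isOpen_compl⟩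

include hx in
lemma others_eq : (S.others x : Set S.D.Z.scheme) = Set.range (S.gHom x hx) := by
  rw [range_gHom]
  ext z
  have hz : S.D.i z ∈ Set.range S.D.i := ⟨z, rfl⟩
  rw [range_i] at hz
  obtain ⟨y, hy, hzy⟩ := mem_closures.1 hz
  constructor
  · intro h
    by_contra hne
    refine h (mem_closures.2 ⟨y, Finset.mem_filter.2 ⟨hy, fun e => hne ?_⟩, hzy⟩)
    rw [e] at hzy; exact hzy
  · intro h h'
    obtain ⟨y', hy', hzy'⟩ := mem_closures.1 h'
    obtain ⟨hy', hne⟩ := Finset.mem_filter.1 hy'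
    exact Set.eq_empty_iff_forall_notMem.1 (S.good y' hy' x hx hne) _ ⟨⟨hzy', h⟩, (S.D.i z).2⟩

lemma isOpenImmersion_gHom : IsOpenImmersion (S.gHom x hx) := by
  haveI := S.isReduced_Z
  let g' : (S.W x hx).scheme ⟶ (S.others x : Scheme.{u}) :=
    IsOpenImmersion.lift (S.others x).ι (S.gHom x hx) (by
      rw [Scheme.Opens.range_ι, others_eq S x hx])
  have hfac : g' ≫ (S.others x).ι = S.gHom x hx := IsOpenImmersion.lift_fac _ _ _
  haveI : IsClosedImmersion (g' ≫ (S.others x).ι) := by rw [hfac]; infer_instance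
  haveI : IsClosedImmersion g' := IsClosedImmersion.of_comp _ (S.others x).ι
  haveI : Surjective g' := ⟨fun z => by
    obtain ⟨w, hw⟩ : (S.others x).ι z ∈ Set.range (S.gHom x hx) := by
      rw [← others_eq S x hx]; exact z.2
    refine ⟨w, (S.others x).ι.isOpenEmbedding.injective ?_⟩
    rw [← hw, ← hfac]
    rfl⟩
  haveI := isIso_of_isClosedImmersion_of_surjective g'
  rw [← hfac]
  infer_instance

/-- The piece of `x` as an object over the closed part. -/
def g : S.W x hx ⟶ S.D.Z where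
  hom := S.gHom x hx
  isOpenImmersion := S.isOpenImmersion_gHom x hx
  dim_eq := by
    have h1 := S.dim_Z
    have h2 := codim_add_pdim X x.1
    rw [x.2] at h2
    rw [show WeilCoh.dim (S.W x hx).scheme = WeilCoh.pdim X.scheme x.1 from dim_piece _ _ _ _]
    omega

instance : IsClosedImmersion (S.g x hx).hom :=
  inferInstanceAs (IsClosedImmersion (S.gHom x hx))

lemma g_i : (S.g x hx).hom ≫ S.D.i = pieceι X x.1 S.Y (S.hmem x hx) := S.gHom_i x hx

lemma disjoint_g (y : X.cdPt (j + 1)) (hy : y ∈ S.s) (hne : x ≠ y) :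
    Disjoint (Set.range (S.g x hx).hom) (Set.range (S.g y hy).hom) := by
  change Disjoint (Set.range (S.gHom x hx)) (Set.range (S.gHom y hy))
  rw [range_gHom, range_gHom, Set.disjoint_left]
  exact fun z h h' =>
    Set.eq_empty_iff_forall_notMem.1 (S.good x hx y hy hne) _ ⟨⟨h, h'⟩, (S.D.i z).2⟩

lemma exists_mem_range_g (z : S.D.Z.scheme) : ∃ x, ∃ hx : x ∈ S.s, z ∈ Set.range (S.g x hx).hom := by
  have hz : S.D.i z ∈ Set.range S.D.i := ⟨z, rfl⟩
  rw [range_i] at hz
  obtain ⟨y, hy, hzy⟩ := mem_closures.1 hz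
  refine ⟨y, hy, ?_⟩
  change z ∈ Set.range (S.gHom y hy)
  rw [range_gHom]
  exact hzy

end Strat

end Strat

end BMLib
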