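import Groth.Agent.BMLib.Criterion

/-!
# The groups of the points of codimension zero of a reduced object
-/

universe u

noncomputable section

open AlgebraicGeometry CategoryTheory CategoryTheory.Limits TopologicalSpace Opposite BMCoh

namespace BMLib

variable {V : ObjectProperty Scheme.{u}} [IsConstructible V]

/-- An open on which the top-dimensional components are disjoint and nothing else is present. -/
structure Strat0 (X : Obj V) where
  /-- The points of codimension zero. -/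
  s : Finset (X.cdPt 0)
  /-- The open. -/
  Y : X.scheme.Opens
  hY : ContainsFj X 0 Y
  mem_s : ∀ x : X.cdPt 0, x ∈ s
  disj : ∀ x ∈ s, ∀ y ∈ s, x ≠ y →
    closure ({x.1} : Set X.scheme) ∩ closure {y.1} ∩ (Y : Set X.scheme) = ∅
  cov : ∀ z ∈ Y, ∃ x ∈ s, z ∈ closure ({x.1} : Set X.scheme)

lemma nonempty_strat0 (X : Obj V) : Nonempty (Strat0 X) := by
  classical
  haveI : IsNoetherian X.scheme := IsConstructible.isNoetherian X.mem
  obtain ⟨S, hSf, hS, hZ⟩ := NoetherianSpace.exists_finite_set_closeds_irreducible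
    (⊤ : Closeds X.scheme)
  lift S to Finset (Closeds X.scheme) using hSf
  have hgen : ∀ T ∈ S, ∃ x, closure ({x} : Set X.scheme) = (T : Set X.scheme) := fun T hT =>
    QuasiSober.sober (hS T hT) T.isClosed
  choose gen hgen using hgen
  let s : Finset (X.cdPt 0) :=
    (S.attach.filter fun T => WeilCoh.codim X.scheme (gen T.1 T.2) = 0).attach.image fun T =>
      ⟨gen T.1.1 T.1.2, by have h := T.2; rw [Finset.mem_filter] at h; exact h.2⟩
  let P := (s ×ˢ s).filter fun p => p.1 ≠ p.2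
  let C : Closeds X.scheme :=
    (S.attach.filter fun T => WeilCoh.codim X.scheme (gen T.1 T.2) ≠ 0).sup (fun T => T.1) ⊔
      P.sup fun p =>
        ⟨closure ({p.1.1} : Set X.scheme) ∩ closure {p.2.1}, isClosed_closure.inter isClosed_closure⟩
  have hcov : ∀ z : X.scheme, z ∈ C ∨ ∃ x ∈ s, z ∈ closure ({x.1} : Set X.scheme) := fun z => by
    have hzS : z ∈ sSup (↑S : Set (Closeds X.scheme)) := hZ ▸ trivial
    rw [← Finset.sup_id_eq_sSup, mem_finsetSup] at hzS
    obtain ⟨T, hT, hzT⟩ := hzS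
    by_cases hc : WeilCoh.codim X.scheme (gen T hT) = 0
    · refine Or.inr ⟨⟨gen T hT, hc⟩, Finset.mem_image.2
        ⟨⟨⟨T, hT⟩, Finset.mem_filter.2 ⟨Finset.mem_attach _ _, hc⟩⟩, Finset.mem_attach _ _, rfl⟩, ?_⟩
      change z ∈ closure ({gen T hT} : Set X.scheme)
      rw [hgen T hT]; exact hzT
    · exact Or.inl (Or.inl ((mem_finsetSup _ _ _).2
        ⟨⟨T, hT⟩, Finset.mem_filter.2 ⟨Finset.mem_attach _ _, hc⟩, hzT⟩))
  have hC : ∀ z ∈ C, 0 < WeilCoh.codim X.scheme z := by
    intro z hz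
    rcases hz with hz | hz
    · obtain ⟨⟨T, hT⟩, hf, hzT⟩ := (mem_finsetSup _ _ _).1 hz
      have hne := (Finset.mem_filter.1 hf).2
      change WeilCoh.codim X.scheme (gen T hT) ≠ 0 at hne
      have := codim_le_of_mem_closure (show z ∈ closure ({gen T hT} : Set X.scheme) by
        rw [hgen T hT]; exact hzT)
      omega
    · obtain ⟨p, hp, h1, h2⟩ := (mem_finsetSup _ _ _).1 hz
      have := (Finset.mem_filter.1 hp).2
      by_contra hlt
      have e1 := eq_of_mem_closure h1 (by rw [p.1.2]; omega)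
      have e2 := eq_of_mem_closure h2 (by rw [p.2.2]; omega)
      exact this (Subtype.ext (e1.trans e2.symm))
  have hY : ContainsFj X 0 C.compl := containsFj_compl C hC
  refine ⟨⟨s, C.compl, hY, fun x => ?_, fun x hx y hy hne => ?_,
    fun z hz => (hcov z).resolve_left hz⟩⟩
  · obtain ⟨x', hx', h⟩ := (hcov x.1).resolve_left (hY x.1 x.2.le)
    rwa [← Subtype.ext (eq_of_mem_closure h (by rw [x.2, x'.2]))]
  · refine Set.eq_empty_iff_forall_notMem.2 fun z ⟨hz, hzY⟩ => hzY (Or.inr ?_)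
    exact (mem_finsetSup _ _ _).2
      ⟨(x, y), Finset.mem_filter.2 ⟨Finset.mk_mem_product hx hy, hne⟩, hz⟩

namespace Strat0

variable {X : Obj V} (S : Strat0 X)

/-- Shrinking the open. -/
abbrev restr {Y' : X.scheme.Opens} (hle : Y' ≤ S.Y) (hY' : ContainsFj X 0 Y') : Strat0 X where
  s := S.s
  Y := Y'
  hY := hY'
  mem_s := S.mem_s
  disj x hx y hy hne :=
    Set.subset_empty_iff.1 ((Set.inter_subset_inter_right _ hle).trans (S.disj x hx y hy hne).le)
  cov z hz := S.cov z (hle hz)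

variable [IsReduced X.scheme] (x : X.cdPt 0)

/-- The piece of `x`, over the open. -/
def g : piece X x.1 S.Y (S.hY x.1 x.2.le) ⟶ X.res S.Y where
  hom := pieceι X x.1 S.Y _
  isOpenImmersion := by
    classical
    let C := (S.s.filter (· ≠ x)).sup fun y : X.cdPt 0 =>
      (⟨closure {y.1}, isClosed_closure⟩ : Closeds X.scheme)
    let O : (S.Y : Scheme.{u}).Opens := S.Y.ι ⁻¹ᵁ C.compl
    haveI : IsReduced (X.res S.Y).scheme := inferInstanceAs (IsReduced (S.Y : Scheme.{u}))
    haveI : IsPreimmersion (pieceι X x.1 S.Y (S.hY x.1 x.2.le) ≫ 𝟙 (X.res S.Y).scheme) := by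
      rw [Category.comp_id]; infer_instance
    refine isOpenImmersion_of_range _ (𝟙 (X.res S.Y).scheme) O ?_
    rw [range_pieceι]
    ext z
    constructor
    · intro hz hzC
      obtain ⟨y, hy, hzy⟩ := (mem_finsetSup _ _ _).1 hzC
      obtain ⟨hy, hne⟩ := Finset.mem_filter.1 hy
      exact Set.eq_empty_iff_forall_notMem.1 (S.disj y hy x (S.mem_s x) hne) _ ⟨⟨hzy, hz⟩, z.2⟩
    · intro hz
      obtain ⟨y, hy, hzy⟩ := S.cov (S.Y.ι z) z.2
      by_contra hne
      refine hz ((mem_finsetSup _ _ _).2 ⟨y, Finset.mem_filter.2 ⟨hy, fun e => hne ?_⟩, hzy⟩)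
      rw [e] at hzy
      exact hzy
  dim_eq := by
    have h := codim_add_pdim X x.1
    rw [x.2] at h
    rw [dim_piece, Obj.res_scheme, dim_opens_of_containsFj S.hY]
    omega

instance : IsClosedImmersion (S.g x).hom :=
  inferInstanceAs (IsClosedImmersion (pieceι X x.1 S.Y (S.hY x.1 x.2.le)))

lemma disjoint_g (y : X.cdPt 0) (hne : x ≠ y) :
    Disjoint (Set.range (S.g x).hom) (Set.range (S.g y).hom) := by
  change Disjoint (Set.range (pieceι X x.1 S.Y (S.hY x.1 x.2.le)))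
    (Set.range (pieceι X y.1 S.Y (S.hY y.1 y.2.le)))
  rw [range_pieceι, range_pieceι, Set.disjoint_left]
  exact fun z h h' => Set.eq_empty_iff_forall_notMem.1
    (S.disj x (S.mem_s x) y (S.mem_s y) hne) _ ⟨⟨h, h'⟩, z.2⟩

variable {R : Type u} [CommRing R] {A : Coefs R} (T : PreTheory V R A)

lemma eq_zero_of_pull {M : A.Cat} {a b : ℤ} (η : T.gp (X.res S.Y) M a b)
    (h : ∀ x, (T.pull (S.g x) M a b).hom η = 0) : η = 0 := by
  rcases S.s.eq_empty_or_nonempty with he | hne
  · haveI : IsEmpty ↥(X.res S.Y).scheme := ⟨fun z => by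
      obtain ⟨x, hx, -⟩ := S.cov z.1 z.2
      rw [he] at hx
      exact Finset.notMem_empty x hx⟩
    exact eq_zero_of_isEmpty T _ M a b η
  refine eq_zero_of_pieces T S.s (X.res S.Y) (fun x => piece X x.1 S.Y (S.hY x.1 x.2.le))
    (fun x _ => S.g x) (fun _ _ => inferInstance) (fun x _ => nonempty_piece X x.1 S.Y _)
    (fun x _ y _ hxy => S.disjoint_g x y hxy) (fun z => ?_) hne M a b η fun x _ => h x
  obtain ⟨x, hx, hzx⟩ := S.cov (S.Y.ι z) z.2
  refine ⟨x, hx, ?_⟩
  change z ∈ Set.range (pieceι X x.1 S.Y _)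
  rw [range_pieceι]
  exact hzx

omit [IsReduced X.scheme] in
lemma pieceLE_g [IsReduced X.scheme] {Y' : X.scheme.Opens} (hle : Y' ≤ S.Y)
    (hY' : ContainsFj X 0 Y') :
    (S.restr hle hY').g x ≫ X.resLE hle ((dim_opens_of_containsFj hY').trans
        (dim_opens_of_containsFj S.hY).symm) =
      pieceLE X x.1 (S.hY x.1 x.2.le) hle (hY' x.1 x.2.le) ≫ S.g x :=
  BMCoh.Hom.ext (pieceLE_ι X x.1 (S.hY x.1 x.2.le) hle _).symm

lemma pull_push_self {M : A.Cat} {a b : ℤ} (w : T.gp (piece X x.1 S.Y (S.hY x.1 x.2.le)) M a b) :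
    (T.pull (S.g x) M a b).hom ((pushP T (S.g x) M a b).hom w) = w :=
  congrArg (fun φ => φ.hom w) (pushP_pull_self T (S.g x) M a b)

lemma pull_push_ne {M : A.Cat} {a b : ℤ} {y : X.cdPt 0} (hne : x ≠ y)
    (w : T.gp (piece X y.1 S.Y (S.hY y.1 y.2.le)) M a b) :
    (T.pull (S.g x) M a b).hom ((pushP T (S.g y) M a b).hom w) = 0 := by
  haveI := nonempty_piece X x.1 S.Y (S.hY x.1 x.2.le)
  exact pushP_pull_disjoint T (S.g y) (S.g x) (S.disjoint_g x y hne) M a b w

lemma sum_pushP_pull {M : A.Cat} {a b : ℤ} (η : T.gp (X.res S.Y) M a b) :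
    ∑ x ∈ S.s, (pushP T (S.g x) M a b).hom ((T.pull (S.g x) M a b).hom η) = η := by
  refine sub_eq_zero.1 (S.eq_zero_of_pull T _ fun x => ?_)
  rw [map_sub, map_sum, Finset.sum_eq_single_of_mem x (S.mem_s x)
    fun y _ hne => S.pull_push_ne x T (Ne.symm hne) _, S.pull_push_self x T, sub_self]

end Strat0

variable {X : Obj V} {R : Type u} [CommRing R] {A : Coefs R} (T : PreTheory V R A)

/-- `H(F_0 X)` vanishes when the groups of the points of codimension zero do. -/
theorem fjGp_zero_eq_zero [IsReduced X.scheme] (M : A.Cat) (i n : ℤ)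
    (h : ∀ x : X.cdPt 0, IsZero (T.ptGp X x.1 M i n)) (c : T.fjGp X 0 M i n) : c = 0 := by
  classical
  obtain ⟨U, a, rfl⟩ := exists_cls T c
  obtain ⟨S₀⟩ := nonempty_strat0 X
  let S := S₀.restr (Y' := S₀.Y ⊓ U.1) inf_le_left (containsFj_inter S₀.hY U.2.1)
  have hSU : S.Y ≤ U.1 := inf_le_right
  let aY := (shrink T (U := U) (U' := fIdx S.hY) hSU).hom a
  have hz : ∀ x : X.cdPt 0, ∃ Y₁, ContainsFj X 0 Y₁ ∧ ∀ Y' (h' : Y' ≤ S.Y), Y' ≤ Y₁ →
      ∀ hx', (T.pull (pieceLE X x.1 (S.hY x.1 x.2.le) h' hx') M i n).hom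
        ((T.pull (S.g x) M i n).hom aY) = 0 := fun x => by
    refine pcls_eq_zero T X M i n x.1 x.2 ?_
    exact eq_zero_of_isZero (h x) _
  choose Yf hYf hzf using hz
  let Y₁ := S.Y ⊓ S.s.inf Yf
  have hY₁ : ContainsFj X 0 Y₁ :=
    containsFj_inter S.hY (containsFj_finsetInf _ _ fun k _ => hYf k)
  let S₁ := S.restr (Y' := Y₁) inf_le_left hY₁
  have h0 : (T.pull (X.resLE (inf_le_left : Y₁ ≤ S.Y) ((dim_opens_of_containsFj hY₁).trans
      (dim_opens_of_containsFj S.hY).symm)) M i n).hom aY = 0 := by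
    refine S₁.eq_zero_of_pull T _ fun x => ?_
    rw [← comp_apply', ← pull_comp T, S.pieceLE_g x inf_le_left hY₁, pull_comp T, comp_apply']
    exact hzf x Y₁ inf_le_left (inf_le_right.trans (Finset.inf_le (S.mem_s x))) _
  rw [← cls_shrink T (U := U) (U' := fIdx S.hY) hSU a,
    ← cls_shrink T (U := fIdx S.hY) (U' := fIdx hY₁) inf_le_left aY]
  exact (congrArg (cls T X _ M i n (fIdx hY₁)) h0).trans (cls_map_zero T _)

/-- The total push-forward at level zero is bijective. -/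
theorem tot_bijective_zero [IsReduced X.scheme] (P : T.PushData X 0) (M : A.Cat) (i n i' n' : ℤ)
    (hi : i' = i + 2 * ((0 : ℕ) : ℤ)) (hn : n' = n + ((0 : ℕ) : ℤ)) :
    Function.Bijective (P.tot M i n i' n' hi hn).hom := by
  classical
  obtain rfl : i' = i := by simpa using hi
  obtain rfl : n' = n := by simpa using hn
  obtain ⟨S₀⟩ := nonempty_strat0 X
  refine ⟨(injective_iff_map_eq_zero _).2 fun ζ hζ => ?_, fun c => ?_⟩
  · obtain ⟨Y, hY, hle₀, w, hw⟩ := exists_common_reps T M i' n' S₀.s S₀.Y S₀.hY fun x => ζ x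
    let S := S₀.restr hle₀ hY
    have hsum : cls T X _ M i' n' (fIdx hY)
        (∑ k ∈ S.s.attach, (pushP T (S.g k.1) M i' n').hom (w k.1 k.2)) = 0 := by
      rw [← hζ, tot_eq_sum T P M i' n' i' n' hi hn ζ S.s fun x hx => absurd (S.mem_s x) hx, cls_sum,
        ← Finset.sum_attach S.s (fun x => (P.cpt x M i' n' i' n' hi hn).hom (ζ x))]
      refine Finset.sum_congr rfl fun k _ => ?_
      rw [← hw k.1 k.2]
      exact (cpt_pcls T P k.1 M i' n' i' n' hi hn hY _).symm
    obtain ⟨U', hle, h0⟩ := cls_eq_zero T hsum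
    let S' := S.restr (Y' := U'.1) hle U'.2.1
    refine DFinsupp.ext fun x => ?_
    change ζ x = 0
    rw [← hw x (S.mem_s x), ← pcls_shrink T X M i' n' x.1 (hY x.1 x.2.le) hle (U'.2.1 x.1 x.2.le)]
    have e : (T.pull (pieceLE X x.1 (hY x.1 x.2.le) hle (U'.2.1 x.1 x.2.le)) M i' n').hom
        (w x (S.mem_s x)) = 0 := by
      have h1 := congrArg (T.pull (S'.g x) M i' n').hom h0
      rw [map_zero] at h1
      have h2 : (T.pull (S'.g x) M i' n').hom ((T.pull (X.resLE hle
          (U'.2.2.trans (fIdx hY).2.2.symm)) M i' n').hom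
          (∑ k ∈ S.s.attach, (pushP T (S.g k.1) M i' n').hom (w k.1 k.2))) = 0 := h1
      rw [← comp_apply', ← pull_comp T, S.pieceLE_g x hle U'.2.1, pull_comp T, comp_apply', map_sum,
        Finset.sum_eq_single_of_mem (⟨x, S.mem_s x⟩ : S.s) (Finset.mem_attach _ _)
          fun k _ hne => S.pull_push_ne x T (fun e => hne (Subtype.ext e.symm)) _,
        S.pull_push_self x T] at h2
      exact h2
    rw [e]
    exact map_zero _
  · obtain ⟨U, a, rfl⟩ := exists_cls T c
    let S := S₀.restr (Y' := S₀.Y ⊓ U.1) inf_le_left (containsFj_inter S₀.hY U.2.1)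
    have hSU : S.Y ≤ U.1 := inf_le_right
    let aY := (shrink T (U := U) (U' := fIdx S.hY) hSU).hom a
    refine ⟨∑ x ∈ S.s, DirectSum.lof R (X.cdPt 0) (fun y : X.cdPt 0 => T.ptGp X y.1 M i' n') x
      (pcls T X M i' n' x.1 S.Y (S.hY x.1 x.2.le) ((T.pull (S.g x) M i' n').hom aY)), ?_⟩
    rw [← cls_shrink T (U := U) (U' := fIdx S.hY) hSU a, map_sum]
    conv_rhs => rw [← S.sum_pushP_pull T ((shrink T (U := U) (U' := fIdx S.hY) hSU).hom a), cls_sum]
    refine Finset.sum_congr rfl fun x _ => ?_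
    exact (P.tot_lof M i' n' i' n' hi hn x _).trans (cpt_pcls T P x M i' n' i' n' hi hn S.hY _)

/-- Vanishing in high degrees of the groups of the loci of bounded codimension. -/
theorem fjGp_eq_zero [IsReduced X.scheme] (M : A.Cat) (c : ℕ)
    (hc : ∀ (y : X.scheme) (k l : ℤ), (WeilCoh.pdim X.scheme y : ℤ) + c < k →
      IsZero (T.ptGp X y M k l)) :
    ∀ (j : ℕ) (i n : ℤ), (WeilCoh.dim X.scheme : ℤ) + j + c < i → ∀ z : T.fjGp X j M i n, z = 0 := by
  intro j
  induction j with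
  | zero =>
    intro i n hi z
    refine fjGp_zero_eq_zero T M i n (fun x => hc x.1 i n ?_) z
    have := pdim_le_dim X x.1
    omega
  | succ j ih =>
    intro i n hi z
    have hinj := fjRes_injective T (X := X) (j := j) M i n (i - 2 * ((j : ℤ) + 1)) (n - ((j : ℤ) + 1))
      (by ring) (by ring) fun x => hc x.1 _ _ (by
        have := codim_add_pdim X x.1
        rw [x.2] at this
        omega)
    exact (injective_iff_map_eq_zero _).1 hinj z (ih i n (by omega) _)

end BMLib
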